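import Groth.Agent.Sga3B.PinCell
import Mathlib.LinearAlgebra.Matrix.GeneralLinearGroup.Defs
import Mathlib.LinearAlgebra.RootSystem.Reduced

/-!
# Chevalley matrices and Chevalley systems: the interface for the existence theorem (S3948)

* `ChevMat P b`: integral matrices `e i`, `f i` (`i` simple), graded by weights in `M`, with
  `[e i, f i] = h i`, `[e i, f j] = 0`, integral divided powers, primitive, weights generating `M`.
* `uMat E n x = ∑_{k < n} x ^ k E_k`, `tMat wt t` (diagonal matrix of a torus point).
* `ChevSys P b`: root matrices for all roots with all the relations over all commutative rings which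
  are needed to construct the Chevalley group scheme as a schematic closure in `GL_J`.
-/

set_option autoImplicit false
universe u

open Groth.Agent.Sga3B.Cell

namespace Groth.Agent.RedSub.H630.ChevDefs

/-- The matrix `X` is homogeneous of weight `m`: it maps the weight `μ` to the weight `μ + m`. -/
def IsWt {J M : Type} [AddCommGroup M] {B : Type u} [Zero B] (wt : J → M) (m : M)
    (X : Matrix J J B) : Prop :=
  ∀ j k, X j k ≠ 0 → wt j = wt k + m

/-- `∑_{k < n} x ^ k E_k`: for the divided powers `E_k` of a nilpotent matrix this is `exp (x E_1)`. -/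
noncomputable def uMat {J : Type} [Fintype J] [DecidableEq J] {B : Type u} [CommRing B]
    (E : ℕ → Matrix J J ℤ) (n : ℕ) (x : B) : Matrix J J B :=
  ∑ k ∈ Finset.range n, x ^ k • (E k).map (Int.cast : ℤ → B)

/-- The diagonal matrix of a torus point. -/
noncomputable def tMat {J M : Type} [Fintype J] [DecidableEq J] [AddCommGroup M] {B : Type u}
    [CommRing B] (wt : J → M) (t : TPt M B) : Matrix J J B :=
  Matrix.diagonal fun j => TPt.ch (wt j) t

variable {idx M : Type} [AddCommGroup M] (P : RootPairing idx ℤ M (Module.Dual ℤ M))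

/-- Integral matrices realising the simple root vectors, with all weights in `M` generating `M`. -/
structure ChevMat (b : P.Base) where
  /-- index set of the basis of weight vectors -/
  J : Type
  [fintypeJ : Fintype J]
  [decEqJ : DecidableEq J]
  /-- the weights -/
  wt : J → M
  /-- simple root vectors -/
  e : b.support → Matrix J J ℤ
  /-- negative simple root vectors -/
  f : b.support → Matrix J J ℤ
  e_wt : ∀ i : b.support, IsWt wt (P.root i) (e i)
  f_wt : ∀ i : b.support, IsWt wt (-P.root i) (f i)
  lie_same : ∀ i : b.support, e i * f i - f i * e i = Matrix.diagonal fun j => P.coroot' i (wt j)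
  lie_ne : ∀ i j : b.support, i ≠ j → e i * f j = f j * e i
  e_div : ∀ (i : b.support) (n : ℕ), ∃ X : Matrix J J ℤ, (n.factorial : ℤ) • X = e i ^ n
  f_div : ∀ (i : b.support) (n : ℕ), ∃ X : Matrix J J ℤ, (n.factorial : ℤ) • X = f i ^ n
  e_prim : ∀ i : b.support, ∃ j k, IsUnit (e i j k)
  f_prim : ∀ i : b.support, ∃ j k, IsUnit (f i j k)
  span_wt : Submodule.span ℤ (Set.range wt) = ⊤

attribute [instance] ChevMat.fintypeJ ChevMat.decEqJ

/-- `s_a` on torus points: precomposition with the reflection of the character group. -/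
def sT {B : Type u} [CommRing B] (a : idx) (t : TPt M B) : TPt M B :=
  t.comp (AddMonoidHom.toMultiplicative (P.reflection a).toLinearMap.toAddMonoidHom)

/-- Root matrices for all roots with the relations of a Chevalley system, over all rings in the
universe `u`. The sorted products are taken along the lists `posL`, `negL` of all the positive
(negative) roots, ordered by nondecreasing `|height|`. -/
structure ChevSys (b : P.Base) where
  /-- index set of the basis of weight vectors -/
  J : Type
  [fintypeJ : Fintype J]
  [decEqJ : DecidableEq J]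
  /-- the weights -/
  wt : J → M
  span_wt : Submodule.span ℤ (Set.range wt) = ⊤
  /-- a bound for the degree of nilpotency -/
  N : ℕ
  /-- the divided powers of the root matrices -/
  E : idx → ℕ → Matrix J J ℤ
  E_zero : ∀ a, E a 0 = 1
  E_mul : ∀ a m n, E a m * E a n = ((m + n).choose m : ℤ) • E a (m + n)
  E_van : ∀ a n, N ≤ n → E a n = 0
  E_wt : ∀ a n, IsWt wt (n • P.root a) (E a n)
  /-- a functional on matrices taking the value `1` on the root matrix, killing other weights -/
  phi : idx → Matrix J J ℤ →ₗ[ℤ] ℤ
  phi_E : ∀ a, phi a (E a 1) = 1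
  phi_wt : ∀ a m, m ≠ P.root a → ∀ X, IsWt wt m X → phi a X = 0
  /-- positive roots by nondecreasing height -/
  posL : List idx
  posL_nodup : posL.Nodup
  mem_posL : ∀ a, a ∈ posL ↔ b.IsPos a
  posL_sorted : posL.Pairwise fun a c => b.height a ≤ b.height c
  /-- negative roots by nondecreasing `-height` -/
  negL : List idx
  negL_nodup : negL.Nodup
  mem_negL : ∀ a, a ∈ negL ↔ ¬ b.IsPos a
  negL_sorted : negL.Pairwise fun a c => b.height c ≤ b.height a
  rank1 : ∀ a ∈ b.support, ∀ {B : Type u} [CommRing B] (x y : B) (v : Bˣ), (v : B) = 1 + x * y →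
    uMat (E a) N x * uMat (E (P.reflectionPerm a a)) N y =
      uMat (E (P.reflectionPerm a a)) N ((v⁻¹ : Bˣ) * y) * tMat wt (TPt.cow (P.coroot a) v) *
        uMat (E a) N ((v⁻¹ : Bˣ) * x)
  comm : ∀ a ∈ b.support, ∀ c ∈ b.support, a ≠ c → ∀ {B : Type u} [CommRing B] (x y : B),
    uMat (E a) N x * uMat (E (P.reflectionPerm c c)) N y =
      uMat (E (P.reflectionPerm c c)) N y * uMat (E a) N x
  /-- `n_a = u_a(1) u_{-a}(-1) u_a(1)` acts on the torus by `s_a` -/
  conjT : ∀ a ∈ b.support, ∀ {B : Type u} [CommRing B] (t : TPt M B),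
    (uMat (E a) N (1 : B) * uMat (E (P.reflectionPerm a a)) N (-1) * uMat (E a) N 1) * tMat wt t =
      tMat wt (sT P a t) *
        (uMat (E a) N (1 : B) * uMat (E (P.reflectionPerm a a)) N (-1) * uMat (E a) N 1)
  conj : ∀ a ∈ b.support, ∀ c : idx, ∃ r : ℤˣ, ∀ {B : Type u} [CommRing B] (x : B),
    (uMat (E a) N (1 : B) * uMat (E (P.reflectionPerm a a)) N (-1) * uMat (E a) N 1) *
        uMat (E c) N x =
      uMat (E (P.reflectionPerm a c)) N (((r : ℤ) : B) * x) *
        (uMat (E a) N (1 : B) * uMat (E (P.reflectionPerm a a)) N (-1) * uMat (E a) N 1)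
  pos_mul : ∀ {B : Type u} [CommRing B] (x y : idx → B), ∃ z : idx → B,
    (posL.map fun a => uMat (E a) N (x a)).prod * (posL.map fun a => uMat (E a) N (y a)).prod =
      (posL.map fun a => uMat (E a) N (z a)).prod ∧ ∀ a ∈ b.support, z a = x a + y a
  pos_inv : ∀ {B : Type u} [CommRing B] (x : idx → B), ∃ z : idx → B,
    (posL.map fun a => uMat (E a) N (x a)).prod * (posL.map fun a => uMat (E a) N (z a)).prod = 1
  neg_mul : ∀ {B : Type u} [CommRing B] (x y : idx → B), ∃ z : idx → B,
    (negL.map fun a => uMat (E a) N (x a)).prod * (negL.map fun a => uMat (E a) N (y a)).prod =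
      (negL.map fun a => uMat (E a) N (z a)).prod ∧
      ∀ a ∈ b.support, z (P.reflectionPerm a a) = x (P.reflectionPerm a a) + y (P.reflectionPerm a a)
  neg_inv : ∀ {B : Type u} [CommRing B] (x : idx → B), ∃ z : idx → B,
    (negL.map fun a => uMat (E a) N (x a)).prod * (negL.map fun a => uMat (E a) N (z a)).prod = 1
  /-- the products of positive root elements without `u_a` (`a` simple) are normalised by `u_{-a}` -/
  pos_norm : ∀ a ∈ b.support, ∀ {B : Type u} [CommRing B] (t : B) (x : idx → B), x a = 0 →
    ∃ z : idx → B, z a = 0 ∧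
      uMat (E (P.reflectionPerm a a)) N t * (posL.map fun c => uMat (E c) N (x c)).prod =
        (posL.map fun c => uMat (E c) N (z c)).prod * uMat (E (P.reflectionPerm a a)) N t
  /-- the products of negative root elements without `u_{-a}` (`a` simple) are normalised by `u_a` -/
  neg_norm : ∀ a ∈ b.support, ∀ {B : Type u} [CommRing B] (t : B) (x : idx → B),
    x (P.reflectionPerm a a) = 0 → ∃ z : idx → B, z (P.reflectionPerm a a) = 0 ∧
      uMat (E a) N t * (negL.map fun c => uMat (E c) N (x c)).prod =
        (negL.map fun c => uMat (E c) N (z c)).prod * uMat (E a) N t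

attribute [instance] ChevSys.fintypeJ ChevSys.decEqJ

end Groth.Agent.RedSub.H630.ChevDefs
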