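import Groth.Agent.RedSub.H630.Assemble
import Groth.Agent.RedSub.H507.RootMat
import Groth.Agent.RedSub.H476.Rank1
import Groth.Agent.Redsub.H631.IntRepEx

/-!
# Existence of Chevalley systems
-/

set_option autoImplicit false
universe u

open Matrix Groth.Agent.RedSub.H630.ChevDefs Groth.Agent.RedSub.H630.Coords
  Groth.Agent.RedSub.H630.Assemble Groth.Agent.Sga3B.Cell

namespace Groth.Agent.RedSub.H630.ChevExists

variable {idx M : Type} [AddCommGroup M]
variable {P : RootPairing idx ℤ M (Module.Dual ℤ M)} {b : P.Base}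

/-- `RootMat` from `ChevMat`. -/
theorem nonempty_rootMat [Finite idx] [P.IsReduced] [Module.Free ℤ M] [Module.Finite ℤ M]
    (C : ChevMat P b) : Nonempty (RootMat P b) := by
  have : IsAddTorsionFree M := .of_isTorsionFree ℤ M
  obtain ⟨N, E, phi, h1, h2, h3, h4, h5, h6, h7, h8, h9, h10, h11, h12, h13, h14⟩ :=
    H507.RootMat.exists_rootMat C
  -- enlarge `N` to make it positive
  by_cases hN : 0 < N
  · exact ⟨{
      J := C.J, wt := C.wt, span_wt := C.span_wt, N := N, N_pos := hN, E := E
      E_zero := h3, E_mul := h4, E_van := h5, E_wt := h6, phi := phi, phi_E := h7, phi_wt := h8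
      lie_root := h9, lie_nonroot := h10, lie_opp := h11
      conj := fun i hi c => h12 ⟨i, hi⟩ c }⟩
  · have hN0 : N = 0 := Nat.eq_zero_of_not_pos hN
    subst hN0
    have hE : ∀ a n, E a n = 0 := fun a n => h5 a n (Nat.zero_le n)
    refine ⟨{
      J := C.J, wt := C.wt, span_wt := C.span_wt, N := 1, N_pos := one_pos, E := E
      E_zero := h3, E_mul := h4, E_van := fun a n _ => hE a n, E_wt := h6, phi := phi
      phi_E := h7, phi_wt := h8
      lie_root := h9, lie_nonroot := h10, lie_opp := h11
      conj := fun i hi c => ⟨1, fun n => ?_⟩ }⟩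
    rw [hE, hE, mul_zero, zero_mul, smul_zero]

/-- The rank one relation. -/
theorem rank1 (hP : P.toLinearMap = Module.Dual.eval ℤ M) (R : RootMat P b) :
    Rank1.{u} b R := by
  intro a ha B _ x y v hv
  have hneg : P.root (P.reflectionPerm a a) = -P.root a := by
    rw [P.root_reflectionPerm, P.reflection_apply_self]
  have h2 : P.coroot' a (P.root a) = 2 := P.root_coroot_two a
  have hE1 : IsWt R.wt (P.root a) (R.E a 1) := by simpa using R.E_wt a 1
  have hF1 : IsWt R.wt (P.root (P.reflectionPerm a a)) (R.E (P.reflectionPerm a a) 1) := by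
    simpa using R.E_wt (P.reflectionPerm a a) 1
  have h3 := H476.Rank1.main (fun j => P.coroot' a (R.wt j)) (R.E a) (R.E (P.reflectionPerm a a))
    R.N (R.E_zero _) (R.E_zero _) (R.E_mul _) (R.E_mul _) (R.E_van _) (R.E_van _)
    (fun j k h => by rw [hE1 j k h, map_add, h2])
    (fun j k h => by rw [hF1 j k h, map_add, hneg, map_neg, h2]; ring)
    (R.lie_opp a) x y v hv
  rw [h3]
  congr 2
  rw [tMat]
  congr 1
  funext j
  rw [TPt.ch_cow]
  have h4 : P.coroot' a (R.wt j) = P.coroot a (R.wt j) := by
    change P.toLinearMap (R.wt j) (P.coroot a) = _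
    rw [hP]; rfl
  rw [h4]

/-- **Existence of Chevalley systems.** -/
theorem nonempty_chevSys [Finite idx] [P.IsReduced] [Module.Finite ℤ M] [Module.Free ℤ M]
    (hP : P.toLinearMap = Module.Dual.eval ℤ M) (b : P.Base) : Nonempty (ChevSys.{u} P b) := by
  obtain ⟨C⟩ := Redsub.H631.IntRepEx.nonempty_chevMat P b
  obtain ⟨R⟩ := nonempty_rootMat C
  exact nonempty_chevSys_of_rootMat R hP (rank1 hP R)

end Groth.Agent.RedSub.H630.ChevExists
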