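import Groth.Agent.Sga3B.BaseZ
import Mathlib.LinearAlgebra.RootSystem.Hom
import Mathlib.LinearAlgebra.RootSystem.Reduced

/-!
# Every root datum is isomorphic to one with coweight lattice the dual of the weight lattice
-/

set_option autoImplicit false

open Function

namespace Groth.Agent.RedSub.H630.ToDual

variable {idx M N : Type} [AddCommGroup M] [AddCommGroup N]

/-- The coweight lattice is the dual of the weight lattice. -/
noncomputable def eN (R : RootPairing idx ℤ M N) : N ≃ₗ[ℤ] Module.Dual ℤ M := R.flip.toPerfPair

theorem eN_apply (R : RootPairing idx ℤ M N) (n : N) (m : M) : eN R n m = R.toLinearMap m n := rfl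

/-- The root datum with coweight lattice `Dual ℤ M`. -/
noncomputable def toDual [Module.Finite ℤ M] [Module.Free ℤ M] (R : RootPairing idx ℤ M N) :
    RootPairing idx ℤ M (Module.Dual ℤ M) where
  toLinearMap := Module.Dual.eval ℤ M
  isPerfPair_toLinearMap := inferInstance
  root := R.root
  coroot := R.coroot.trans (eN R).toEmbedding
  root_coroot_two i := R.root_coroot_two i
  reflectionPerm := R.reflectionPerm
  reflectionPerm_root i j := R.reflectionPerm_root i j
  reflectionPerm_coroot i j := by
    have h := congrArg (eN R) (R.reflectionPerm_coroot i j)
    rw [map_sub, map_smul] at h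
    exact h

variable [Module.Finite ℤ M] [Module.Free ℤ M] (R : RootPairing idx ℤ M N)

theorem toDual_toLinearMap : (toDual R).toLinearMap = Module.Dual.eval ℤ M := rfl

/-- The isomorphism of root data. -/
noncomputable def equiv : RootPairing.Equiv (toDual R) R where
  weightMap := LinearMap.id
  coweightMap := (eN R).toLinearMap
  indexEquiv := Equiv.refl idx
  weight_coweight_transpose := by
    ext n m
    rfl
  root_weightMap := rfl
  coroot_coweightMap := rfl
  bijective_weightMap := bijective_id
  bijective_coweightMap := (eN R).bijective

instance [R.IsReduced] : (toDual R).IsReduced where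
  eq_or_eq_neg i j h := by
    exact RootPairing.IsReduced.eq_or_eq_neg (P := R) i j h

end Groth.Agent.RedSub.H630.ToDual
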