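import Groth.Agent.RedSub.H630.Levels
import Groth.Agent.RedSub.H630.ChevDefs
import Mathlib.RingTheory.Nilpotent.Exp
import Mathlib.Algebra.Algebra.Rat

/-!
# One-parameter groups `uMat` of a family of divided powers
-/

set_option autoImplicit false
universe u

open Matrix Groth.Agent.RedSub.H630.ChevDefs Groth.Agent.RedSub.H630.Levels

namespace Groth.Agent.RedSub.H630.UMat

variable {J : Type} [Fintype J] [DecidableEq J]

section ring

variable {E : ℕ → Matrix J J ℤ} {N : ℕ} {B : Type u} [CommRing B]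

theorem uMat_map {C : Type*} [CommRing C] (f : B →+* C) (x : B) :
    (uMat E N x).map f = uMat E N (f x) := by
  have : (uMat E N x).map f = f.mapMatrix (uMat E N x) := rfl
  rw [this, uMat, uMat, map_sum]
  refine Finset.sum_congr rfl fun k _ => ?_
  ext i j
  simp

theorem uMat_zero (hN : 0 < N) (h0 : E 0 = 1) : uMat E N (0 : B) = 1 := by
  rw [uMat, Finset.sum_eq_single_of_mem 0 (Finset.mem_range.mpr hN)]
  · rw [pow_zero, one_smul, h0]
    exact Matrix.map_one _ Int.cast_zero Int.cast_one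
  · intro k _ hk
    rw [zero_pow hk, zero_smul]

theorem uMat_add (hmul : ∀ m n, E m * E n = ((m + n).choose m : ℤ) • E (m + n))
    (hv : ∀ n, N ≤ n → E n = 0) (x y : B) :
    uMat E N x * uMat E N y = uMat E N (x + y) := by
  classical
  set F : ℕ → Matrix J J B := fun n => (E n).map (Int.cast : ℤ → B) with hF
  have hFmul : ∀ m n, F m * F n = ((m + n).choose m : B) • F (m + n) := by
    intro m n
    have h1 : F m * F n = (Int.castRingHom B).mapMatrix (E m * E n) := by
      rw [map_mul]; rfl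
    rw [h1, hmul]
    ext i j
    simp only [hF, RingHom.mapMatrix_apply, Matrix.map_apply, Matrix.smul_apply, smul_eq_mul,
      Int.coe_castRingHom]
    push_cast
    rfl
  have hFv : ∀ n, N ≤ n → F n = 0 := by
    intro n hn
    simp only [hF, hv n hn]
    exact Matrix.map_zero _ Int.cast_zero
  have hexp : ∀ z : B, uMat E N z = ∑ k ∈ Finset.range N, z ^ k • F k := fun z => rfl
  rw [hexp, hexp, hexp, Finset.sum_mul_sum, ← Finset.sum_product']
  have hL : ∀ p ∈ Finset.range N ×ˢ Finset.range N, x ^ p.1 • F p.1 * y ^ p.2 • F p.2 =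
      (x ^ p.1 * y ^ p.2 * ((p.1 + p.2).choose p.1 : B)) • F (p.1 + p.2) := by
    intro p _
    rw [smul_mul_smul_comm, hFmul, smul_smul]
  rw [Finset.sum_congr rfl hL]
  have hR : ∀ n ∈ Finset.range N, (x + y) ^ n • F n =
      ∑ p ∈ (Finset.range N ×ˢ Finset.range N).filter (fun p => p.1 + p.2 = n),
        (x ^ p.1 * y ^ p.2 * ((p.1 + p.2).choose p.1 : B)) • F (p.1 + p.2) := by
    intro n hn
    rw [Finset.mem_range] at hn
    have h1 : (Finset.range N ×ˢ Finset.range N).filter (fun p => p.1 + p.2 = n) =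
        Finset.antidiagonal n := by
      ext p
      simp only [Finset.mem_filter, Finset.mem_product, Finset.mem_range, Finset.mem_antidiagonal]
      omega
    rw [h1, add_pow, Finset.sum_smul, Finset.Nat.sum_antidiagonal_eq_sum_range_succ
      (fun i j => (x ^ i * y ^ j * ((i + j).choose i : B)) • F (i + j))]
    refine Finset.sum_congr rfl fun k hk => ?_
    have hk' : k + (n - k) = n := by have := Finset.mem_range.mp hk; omega
    rw [hk']
  rw [Finset.sum_congr rfl hR]
  have hsplit : ∑ p ∈ Finset.range N ×ˢ Finset.range N,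
      (x ^ p.1 * y ^ p.2 * ((p.1 + p.2).choose p.1 : B)) • F (p.1 + p.2) =
      ∑ p ∈ (Finset.range N ×ˢ Finset.range N).filter (fun p => p.1 + p.2 < N),
      (x ^ p.1 * y ^ p.2 * ((p.1 + p.2).choose p.1 : B)) • F (p.1 + p.2) := by
    rw [Finset.sum_filter]
    refine Finset.sum_congr rfl fun p _ => ?_
    split_ifs with h
    · rfl
    · rw [hFv _ (not_lt.mp h), smul_zero]
  rw [hsplit, ← Finset.sum_fiberwise_of_maps_to (s := (Finset.range N ×ˢ Finset.range N).filter
    (fun p => p.1 + p.2 < N)) (t := Finset.range N) (g := fun p => p.1 + p.2)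
    (fun p hp => Finset.mem_range.mpr (Finset.mem_filter.mp hp).2)]
  refine Finset.sum_congr rfl fun n hn => ?_
  rw [Finset.filter_filter]
  refine Finset.sum_congr ?_ fun _ _ => rfl
  ext p
  simp only [Finset.mem_filter, Finset.mem_product, Finset.mem_range]
  rw [Finset.mem_range] at hn
  omega

theorem uMat_mul_neg (hN : 0 < N) (h0 : E 0 = 1)
    (hmul : ∀ m n, E m * E n = ((m + n).choose m : ℤ) • E (m + n))
    (hv : ∀ n, N ≤ n → E n = 0) (x : B) : uMat E N x * uMat E N (-x) = 1 := by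
  rw [uMat_add hmul hv, add_neg_cancel, uMat_zero hN h0]

theorem uMat_neg_mul (hN : 0 < N) (h0 : E 0 = 1)
    (hmul : ∀ m n, E m * E n = ((m + n).choose m : ℤ) • E (m + n))
    (hv : ∀ n, N ≤ n → E n = 0) (x : B) : uMat E N (-x) * uMat E N x = 1 := by
  rw [uMat_add hmul hv, neg_add_cancel, uMat_zero hN h0]

/-- the elements of the one-parameter group, as units -/
noncomputable def uU (E : ℕ → Matrix J J ℤ) (N : ℕ) (hN : 0 < N) (h0 : E 0 = 1)
    (hmul : ∀ m n, E m * E n = ((m + n).choose m : ℤ) • E (m + n))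
    (hv : ∀ n, N ≤ n → E n = 0) (x : B) : (Matrix J J B)ˣ where
  val := uMat E N x
  inv := uMat E N (-x)
  val_inv := uMat_mul_neg hN h0 hmul hv x
  inv_val := uMat_neg_mul hN h0 hmul hv x

/-- levels of the one-parameter group -/
theorem lev_uMat_zero {d : J → ℤ} {c : ℤ} (hc : 0 ≤ c)
    (hE : ∀ n j k, E n j k ≠ 0 → d j - d k = n * c) (x : B) : Lev d 0 (uMat E N x) := by
  refine Lev.sum _ _ fun n _ => Lev.smul _ fun j k hjk => ?_
  have : E n j k ≠ 0 := fun h => hjk (by rw [Matrix.map_apply, h, Int.cast_zero])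
  rw [hE n j k this]
  positivity

theorem lev_uMat {d : J → ℤ} {c : ℤ} (hc : 0 < c) (hN : 0 < N) (h0 : E 0 = 1)
    (hv : ∀ n, N ≤ n → E n = 0) (hE : ∀ n j k, E n j k ≠ 0 → d j - d k = n * c) (x : B) :
    Lev d (c + 1) (uMat E N x - 1 - x • (E 1).map (Int.cast : ℤ → B)) := by
  have h1 : uMat E N x - 1 - x • (E 1).map (Int.cast : ℤ → B) =
      ∑ k ∈ Finset.Ico 2 (N + 2), x ^ k • (E k).map (Int.cast : ℤ → B) := by
    have h2 : uMat E N x = uMat E (N + 2) x := by
      rw [uMat, uMat, Finset.sum_range_succ, Finset.sum_range_succ, hv N le_rfl,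
        hv (N + 1) (by omega), Matrix.map_zero _ Int.cast_zero, smul_zero, smul_zero,
        add_zero, add_zero]
    rw [h2, uMat, Finset.range_eq_Ico, Finset.sum_eq_sum_Ico_succ_bot (by omega),
      Finset.sum_eq_sum_Ico_succ_bot (by omega), h0, pow_zero, one_smul, pow_one,
      Matrix.map_one _ Int.cast_zero Int.cast_one]
    abel
  rw [h1]
  refine Lev.sum _ _ fun n hn => Lev.smul _ fun j k hjk => ?_
  have h3 : E n j k ≠ 0 := fun h => hjk (by rw [Matrix.map_apply, h, Int.cast_zero])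
  rw [hE n j k h3]
  have h4 : (2 : ℤ) ≤ n := by exact_mod_cast (Finset.mem_Ico.mp hn).1
  nlinarith

end ring

section field

variable {K : Type*} [Field K] [CharZero K]

open IsNilpotent in
/-- Conjugation by the exponential of `e` preserves a subspace stable under the commutator by `e`. -/
theorem conj_mem (g : Submodule K (Matrix J J K)) (e : Matrix J J K) {N : ℕ} (he : e ^ N = 0)
    (hg : ∀ X ∈ g, e * X - X * e ∈ g) {X : Matrix J J K} (hX : X ∈ g) :
    (∑ i ∈ Finset.range N, (i.factorial : ℚ)⁻¹ • e ^ i) * X *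
      (∑ i ∈ Finset.range N, (i.factorial : ℚ)⁻¹ • (-e) ^ i) ∈ g := by
  set Lm : Module.End K (Matrix J J K) := LinearMap.mulLeft K e with hLm
  set Rm : Module.End K (Matrix J J K) := LinearMap.mulRight K (-e) with hRm
  have hL : Lm ^ N = 0 := by rw [hLm, LinearMap.pow_mulLeft, he, LinearMap.mulLeft_zero_eq_zero]
  have he' : (-e) ^ N = 0 := by rw [neg_pow, he, mul_zero]
  have hR : Rm ^ N = 0 := by rw [hRm, LinearMap.pow_mulRight, he', LinearMap.mulRight_zero_eq_zero]
  have hcomm : Commute Lm Rm := LinearMap.commute_mulLeft_right e (-e)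
  have h1 := exp_add_of_commute hcomm ⟨N, hL⟩ ⟨N, hR⟩
  have h2 : exp Lm (exp Rm X) = (∑ i ∈ Finset.range N, (i.factorial : ℚ)⁻¹ • e ^ i) * X *
      (∑ i ∈ Finset.range N, (i.factorial : ℚ)⁻¹ • (-e) ^ i) := by
    rw [exp_eq_sum hL, exp_eq_sum hR]
    simp only [hLm, hRm, LinearMap.pow_mulLeft, LinearMap.pow_mulRight, LinearMap.sum_apply,
      LinearMap.smul_apply, LinearMap.mulLeft_apply, LinearMap.mulRight_apply]
    rw [mul_assoc, Finset.sum_mul, Finset.mul_sum]
    refine Finset.sum_congr rfl fun i _ => ?_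
    rw [smul_mul_assoc]
    congr 2
    refine Finset.sum_congr rfl fun j _ => ?_
    rw [mul_smul_comm]
  rw [← h2, ← Module.End.mul_apply, ← h1]
  obtain ⟨n, hn⟩ : IsNilpotent (Lm + Rm) := hcomm.isNilpotent_add ⟨N, hL⟩ ⟨N, hR⟩
  rw [exp_eq_sum hn, LinearMap.sum_apply]
  refine g.sum_mem fun i _ => ?_
  rw [LinearMap.smul_apply]
  have h3 : ∀ i, ((Lm + Rm) ^ i) X ∈ g := by
    intro i
    induction i with
    | zero => simpa using hX
    | succ i ih =>
      rw [pow_succ', Module.End.mul_apply, LinearMap.add_apply, hLm, hRm, LinearMap.mulLeft_apply,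
        LinearMap.mulRight_apply, mul_neg, ← sub_eq_add_neg]
      exact hg _ ih
  have h4 : ((i.factorial : ℚ)⁻¹ • ((Lm + Rm) ^ i) X) =
      (((i.factorial : ℚ)⁻¹ : ℚ) : K) • ((Lm + Rm) ^ i) X := by
    ext j k
    simp [Matrix.smul_apply, Rat.smul_def]
  rw [h4]
  exact g.smul_mem _ (h3 i)

theorem fact_smul {E : ℕ → Matrix J J ℤ} (h0 : E 0 = 1)
    (hmul : ∀ m n, E m * E n = ((m + n).choose m : ℤ) • E (m + n)) (n : ℕ) :
    (n.factorial : ℤ) • E n = E 1 ^ n := by
  induction n with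
  | zero => simp [h0]
  | succ n ih =>
    rw [pow_succ, ← ih, smul_mul_assoc, hmul n 1, smul_smul, Nat.factorial_succ,
      Nat.choose_succ_self_right]
    push_cast
    rw [mul_comm ((n.factorial : ℤ))]

theorem uMat_eq_exp {E : ℕ → Matrix J J ℤ} (h0 : E 0 = 1)
    (hmul : ∀ m n, E m * E n = ((m + n).choose m : ℤ) • E (m + n)) (N : ℕ) (x : K) :
    uMat E N x = ∑ i ∈ Finset.range N,
      (i.factorial : ℚ)⁻¹ • (x • (E 1).map (Int.cast : ℤ → K)) ^ i := by
  rw [uMat]
  refine Finset.sum_congr rfl fun i _ => ?_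
  have h1 : ((E 1).map (Int.cast : ℤ → K)) ^ i = (i.factorial : K) •
      (E i).map (Int.cast : ℤ → K) := by
    have h2 : ((E 1).map (Int.cast : ℤ → K)) ^ i = (Int.castRingHom K).mapMatrix (E 1 ^ i) := by
      rw [map_pow]; rfl
    rw [h2, ← fact_smul h0 hmul]
    ext j k
    simp only [RingHom.mapMatrix_apply, Matrix.map_apply, Matrix.smul_apply, smul_eq_mul,
      Int.coe_castRingHom]
    push_cast
    rfl
  rw [smul_pow, h1]
  have h3 : (i.factorial : K) ≠ 0 := by exact_mod_cast i.factorial_ne_zero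
  ext j k
  simp only [Matrix.smul_apply, smul_eq_mul, Rat.smul_def]
  push_cast
  field_simp

omit [CharZero K] in
theorem map_pow_eq_zero {E : ℕ → Matrix J J ℤ} (h0 : E 0 = 1)
    (hmul : ∀ m n, E m * E n = ((m + n).choose m : ℤ) • E (m + n)) {N : ℕ}
    (hv : ∀ n, N ≤ n → E n = 0) (x : K) : (x • (E 1).map (Int.cast : ℤ → K)) ^ N = 0 := by
  have h2 : ((E 1).map (Int.cast : ℤ → K)) ^ N = (Int.castRingHom K).mapMatrix (E 1 ^ N) := by
    rw [map_pow]; rfl
  rw [smul_pow, h2, ← fact_smul h0 hmul, hv N le_rfl, smul_zero, map_zero, smul_zero]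

/-- Conjugation by `uMat x` preserves a subspace stable under the commutator by `E 1`. -/
theorem uMat_conj_mem {E : ℕ → Matrix J J ℤ} (h0 : E 0 = 1)
    (hmul : ∀ m n, E m * E n = ((m + n).choose m : ℤ) • E (m + n)) {N : ℕ}
    (hv : ∀ n, N ≤ n → E n = 0) (g : Submodule K (Matrix J J K))
    (hg : ∀ X ∈ g, (E 1).map (Int.cast : ℤ → K) * X - X * (E 1).map (Int.cast : ℤ → K) ∈ g)
    (x : K) {X : Matrix J J K} (hX : X ∈ g) : uMat E N x * X * uMat E N (-x) ∈ g := by
  rw [uMat_eq_exp h0 hmul, uMat_eq_exp h0 hmul]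
  have h1 := conj_mem g (x • (E 1).map (Int.cast : ℤ → K)) (map_pow_eq_zero h0 hmul hv x)
    (fun Y hY => ?_) hX
  · simpa only [neg_smul] using h1
  · rw [smul_mul_assoc, mul_smul_comm, ← smul_sub]
    exact g.smul_mem _ (hg Y hY)

theorem uU_mem_nrm {E : ℕ → Matrix J J ℤ} {N : ℕ} (hN : 0 < N) (h0 : E 0 = 1)
    (hmul : ∀ m n, E m * E n = ((m + n).choose m : ℤ) • E (m + n))
    (hv : ∀ n, N ≤ n → E n = 0) (g : Submodule K (Matrix J J K))
    (hg : ∀ X ∈ g, (E 1).map (Int.cast : ℤ → K) * X - X * (E 1).map (Int.cast : ℤ → K) ∈ g)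
    (x : K) : uU E N hN h0 hmul hv x ∈ Nrm g := by
  refine mem_nrm_of (fun X hX => uMat_conj_mem h0 hmul hv g hg x hX) (fun X hX => ?_)
  have := uMat_conj_mem h0 hmul hv g hg (-x) hX
  rw [neg_neg] at this
  exact this

end field

end Groth.Agent.RedSub.H630.UMat
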