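import Groth.Agent.RedSub.H630.Transfer

/-!
# From root matrices to Chevalley systems
-/

set_option autoImplicit false
universe u

open Matrix Groth.Agent.RedSub.H630.ChevDefs Groth.Agent.RedSub.H630.Levels
  Groth.Agent.RedSub.H630.UMat Groth.Agent.RedSub.H630.Coords Groth.Agent.Sga3B.Cell

namespace Groth.Agent.RedSub.H630.Assemble

variable {idx M : Type} [AddCommGroup M]
variable {P : RootPairing idx ℤ M (Module.Dual ℤ M)} {b : P.Base} (R : RootMat P b)

section torus

variable {J : Type} [Fintype J] [DecidableEq J] (wt : J → M) {B : Type u} [CommRing B]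

theorem tMat_mul (s t : TPt M B) : tMat wt (s * t) = tMat wt s * tMat wt t := by
  rw [tMat, tMat, tMat, Matrix.diagonal_mul_diagonal]
  congr 1

theorem tMat_one : tMat wt (1 : TPt M B) = 1 := by
  rw [tMat, ← Matrix.diagonal_one]
  congr 1

/-- the torus in the group of invertible matrices -/
noncomputable def tU : TPt M B →* (Matrix J J B)ˣ :=
  MonoidHom.toHomUnits
    { toFun := fun t => tMat wt t
      map_one' := tMat_one wt
      map_mul' := tMat_mul wt }

theorem coe_tU (t : TPt M B) : (tU wt t : Matrix J J B) = tMat wt t := rfl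

theorem ch_nsmul (m : M) (n : ℕ) (t : TPt M B) : TPt.ch (n • m) t = TPt.ch m t ^ n := by
  simp only [TPt.ch, ofAdd_nsmul, map_pow, Units.val_pow_eq_pow_val]

theorem tMat_mul_uMat (E : ℕ → Matrix J J ℤ) (N : ℕ) (m : M) (hE : ∀ n, IsWt wt (n • m) (E n))
    (t : TPt M B) (x : B) :
    tMat wt t * uMat E N x = uMat E N (TPt.ch m t * x) * tMat wt t := by
  rw [uMat, uMat, Finset.mul_sum, Finset.sum_mul]
  refine Finset.sum_congr rfl fun n _ => ?_
  ext j k
  rw [tMat, Matrix.diagonal_mul, Matrix.mul_diagonal, Matrix.smul_apply, Matrix.smul_apply,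
    Matrix.map_apply, smul_eq_mul, smul_eq_mul]
  by_cases h : E n j k = 0
  · simp [h]
  · rw [hE n j k h, TPt.ch_add, ch_nsmul]
    ring

end torus

section comm

variable {J : Type} [Fintype J] [DecidableEq J]

/-- divided powers of commuting matrices commute -/
theorem commute_div {E F : ℕ → Matrix J J ℤ} (hE0 : E 0 = 1)
    (hEmul : ∀ m n, E m * E n = ((m + n).choose m : ℤ) • E (m + n)) (hF0 : F 0 = 1)
    (hFmul : ∀ m n, F m * F n = ((m + n).choose m : ℤ) • F (m + n)) (h : E 1 * F 1 = F 1 * E 1)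
    (m n : ℕ) : E m * F n = F n * E m := by
  have h1 : Commute (E 1 ^ m) (F 1 ^ n) := (show Commute (E 1) (F 1) from h).pow_pow m n
  rw [← fact_smul hE0 hEmul, ← fact_smul hF0 hFmul] at h1
  have h2 : ((m.factorial : ℤ) * (n.factorial : ℤ)) • (E m * F n) =
      ((m.factorial : ℤ) * (n.factorial : ℤ)) • (F n * E m) := by
    have h3 := h1.eq
    rw [smul_mul_smul_comm, smul_mul_smul_comm, mul_comm (n.factorial : ℤ)] at h3
    exact h3
  have h4 : ((m.factorial : ℤ) * (n.factorial : ℤ)) ≠ 0 := by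
    have := m.factorial_ne_zero
    have := n.factorial_ne_zero
    positivity
  exact smul_right_injective _ h4 h2

theorem commute_uMat {E F : ℕ → Matrix J J ℤ} (N : ℕ) (h : ∀ m n, E m * F n = F n * E m)
    {B : Type*} [CommRing B] (x y : B) : uMat E N x * uMat F N y = uMat F N y * uMat E N x := by
  rw [uMat, uMat, Finset.sum_mul_sum, Finset.sum_mul_sum, Finset.sum_comm]
  refine Finset.sum_congr rfl fun i _ => Finset.sum_congr rfl fun j _ => ?_
  rw [smul_mul_smul_comm, smul_mul_smul_comm, mul_comm (x ^ j)]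
  congr 1
  have h1 : ∀ X Y : Matrix J J ℤ, X.map (Int.cast : ℤ → B) * Y.map (Int.cast : ℤ → B) =
      (Int.castRingHom B).mapMatrix (X * Y) := by
    intro X Y; rw [map_mul]; rfl
  rw [h1, h1, h j i]

end comm

section conj

/-- the representative of a simple reflection -/
noncomputable def nU (a : idx) (B : Type*) [CommRing B] : (Matrix R.J R.J B)ˣ :=
  R.U a 1 * R.U (P.reflectionPerm a a) (-1) * R.U a 1

theorem coe_nU (a : idx) (B : Type u) [CommRing B] : (nU R a B : Matrix R.J R.J B) =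
    uMat (R.E a) R.N (1 : B) * uMat (R.E (P.reflectionPerm a a)) R.N (-1) *
      uMat (R.E a) R.N 1 := rfl

theorem conj_E {a : idx} (ha : a ∈ b.support) (c : idx) : ∃ r : ℤˣ, ∀ {B : Type u} [CommRing B]
    (x : B), (uMat (R.E a) R.N (1 : B) * uMat (R.E (P.reflectionPerm a a)) R.N (-1) *
      uMat (R.E a) R.N 1) * uMat (R.E c) R.N x =
      uMat (R.E (P.reflectionPerm a c)) R.N (((r : ℤ) : B) * x) *
        (uMat (R.E a) R.N (1 : B) * uMat (R.E (P.reflectionPerm a a)) R.N (-1) *
          uMat (R.E a) R.N 1) := by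
  obtain ⟨r, hr⟩ := R.conj a ha c
  refine ⟨r, fun {B} _ x => ?_⟩
  set nZ := uMat (R.E a) R.N (1 : ℤ) * uMat (R.E (P.reflectionPerm a a)) R.N (-1) *
    uMat (R.E a) R.N 1 with hnZ
  have hn : uMat (R.E a) R.N (1 : B) * uMat (R.E (P.reflectionPerm a a)) R.N (-1) *
      uMat (R.E a) R.N 1 = (Int.castRingHom B).mapMatrix nZ := by
    rw [hnZ, map_mul, map_mul]
    simp only [RingHom.mapMatrix_apply, uMat_map, map_one, map_neg]
  rw [hn]
  have hE : ∀ n, (R.E c n).map (Int.cast : ℤ → B) = (Int.castRingHom B).mapMatrix (R.E c n) :=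
    fun _ => rfl
  have hE' : ∀ n, (R.E (P.reflectionPerm a c) n).map (Int.cast : ℤ → B) =
      (Int.castRingHom B).mapMatrix (R.E (P.reflectionPerm a c) n) := fun _ => rfl
  rw [uMat, uMat, Finset.mul_sum, Finset.sum_mul]
  refine Finset.sum_congr rfl fun n _ => ?_
  rw [hE, hE', mul_smul_comm, ← map_mul, hr n, smul_mul_assoc, ← map_mul]
  have h1 : ∀ X : Matrix R.J R.J ℤ, (Int.castRingHom B).mapMatrix (((r : ℤ) ^ n) • X) =
      (((r : ℤ) : B) ^ n) • (Int.castRingHom B).mapMatrix X := by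
    intro X
    ext j k
    simp only [RingHom.mapMatrix_apply, Matrix.map_apply, Matrix.smul_apply, smul_eq_mul,
      Int.coe_castRingHom]
    push_cast
    rfl
  rw [h1, smul_smul, mul_pow, mul_comm (x ^ n)]

variable (b) in
/-- The rank one relation. -/
def Rank1 (R : RootMat P b) : Prop :=
  ∀ a ∈ b.support, ∀ {B : Type u} [CommRing B] (x y : B) (v : Bˣ), (v : B) = 1 + x * y →
    uMat (R.E a) R.N x * uMat (R.E (P.reflectionPerm a a)) R.N y =
      uMat (R.E (P.reflectionPerm a a)) R.N ((v⁻¹ : Bˣ) * y) *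
        tMat R.wt (TPt.cow (P.coroot a) v) * uMat (R.E a) R.N ((v⁻¹ : Bˣ) * x)

variable (hP : P.toLinearMap = Module.Dual.eval ℤ M) (h1 : Rank1.{u} b R)

theorem tU_mul_U (a : idx) {B : Type u} [CommRing B] (t : TPt M B) (x : B) :
    tU R.wt t * R.U a x = R.U a (TPt.ch (P.root a) t * x) * tU R.wt t :=
  Units.ext (tMat_mul_uMat R.wt (R.E a) R.N (P.root a) (R.E_wt a) t x)

include hP h1 in
theorem nU_smul {a : idx} (ha : a ∈ b.support) {B : Type u} [CommRing B] (s : Bˣ) :
    R.U a (s : B) * R.U (P.reflectionPerm a a) (-((s⁻¹ : Bˣ) : B)) * R.U a (s : B) =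
      tU R.wt (TPt.cow (P.coroot a) s) * nU R a B := by
  have h2 : R.U a ((s : B) - 1) * R.U (P.reflectionPerm a a) (1 : B) =
      R.U (P.reflectionPerm a a) (((s⁻¹ : Bˣ) : B) * 1) * tU R.wt (TPt.cow (P.coroot a) s) *
        R.U a (((s⁻¹ : Bˣ) : B) * ((s : B) - 1)) :=
    Units.ext (h1 a ha _ _ s (by ring))
  have h3 : TPt.ch (P.root a) (TPt.cow (P.coroot a) s) = (s : B) ^ 2 := by
    rw [TPt.ch_cow]
    have : P.coroot a (P.root a) = 2 := by
      have h := P.root_coroot_two a
      rw [hP] at h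
      exact h
    rw [this]
    norm_cast
  have h4 : tU R.wt (TPt.cow (P.coroot a) s) * R.U a (-((s⁻¹ : Bˣ) : B)) =
      R.U a (-(s : B)) * tU R.wt (TPt.cow (P.coroot a) s) := by
    rw [tU_mul_U, h3]
    congr 2
    have : (s : B) * ((s⁻¹ : Bˣ) : B) = 1 := s.mul_inv
    linear_combination (-(s : B)) * this
  have h5 : (nU R a B)⁻¹ = R.U a (-1) * R.U (P.reflectionPerm a a) 1 * R.U a (-1) := by
    rw [nU, _root_.mul_inv_rev, _root_.mul_inv_rev, R.coe_U_inv, R.coe_U_inv, neg_neg, mul_assoc]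
  have hU0 : ∀ (c : idx) (x : B), R.U c x * R.U c (-x) = 1 := fun c x => by
    rw [← R.U_add, add_neg_cancel, R.U_zero]
  have hU0' : ∀ (c : idx) (x : B), R.U c (-x) * R.U c x = 1 := fun c x => by
    rw [← R.U_add, neg_add_cancel, R.U_zero]
  rw [← mul_inv_eq_iff_eq_mul, h5]
  calc R.U a (s : B) * R.U (P.reflectionPerm a a) (-((s⁻¹ : Bˣ) : B)) * R.U a (s : B) *
        (R.U a (-1) * R.U (P.reflectionPerm a a) 1 * R.U a (-1))
      = R.U a (s : B) * R.U (P.reflectionPerm a a) (-((s⁻¹ : Bˣ) : B)) *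
        ((R.U a (s : B) * R.U a (-1)) * R.U (P.reflectionPerm a a) 1) * R.U a (-1) := by group
    _ = R.U a (s : B) * R.U (P.reflectionPerm a a) (-((s⁻¹ : Bˣ) : B)) *
        (R.U (P.reflectionPerm a a) (((s⁻¹ : Bˣ) : B) * 1) * tU R.wt (TPt.cow (P.coroot a) s) *
        R.U a (((s⁻¹ : Bˣ) : B) * ((s : B) - 1))) * R.U a (-1) := by
          rw [← R.U_add, ← sub_eq_add_neg, h2]
    _ = R.U a (s : B) * (R.U (P.reflectionPerm a a) (-((s⁻¹ : Bˣ) : B)) *
        R.U (P.reflectionPerm a a) (((s⁻¹ : Bˣ) : B))) * tU R.wt (TPt.cow (P.coroot a) s) *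
        (R.U a (((s⁻¹ : Bˣ) : B) * ((s : B) - 1)) * R.U a (-1)) := by
          rw [mul_one]; group
    _ = R.U a (s : B) * (tU R.wt (TPt.cow (P.coroot a) s) * R.U a (-((s⁻¹ : Bˣ) : B))) := by
          rw [hU0', mul_one, ← R.U_add, mul_assoc]
          congr 3
          have : ((s⁻¹ : Bˣ) : B) * (s : B) = 1 := s.inv_mul
          linear_combination this
    _ = tU R.wt (TPt.cow (P.coroot a) s) := by
          rw [h4, ← mul_assoc, hU0, one_mul]

include hP in
theorem sT_eq (a : idx) {B : Type u} [CommRing B] (t : TPt M B) :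
    sT P a t = t * TPt.cow (P.coroot a) (t (Multiplicative.ofAdd (P.root a)))⁻¹ := by
  refine MonoidHom.ext fun m => ?_
  have h1 : P.reflection a m.toAdd = m.toAdd - P.coroot a m.toAdd • P.root a := by
    rw [P.reflection_apply]
    have h2 : P.coroot' a m.toAdd = P.coroot a m.toAdd := by
      change P.toLinearMap m.toAdd (P.coroot a) = _
      rw [hP]; rfl
    rw [h2]
  change t (Multiplicative.ofAdd (P.reflection a m.toAdd)) =
    t m * ((t (Multiplicative.ofAdd (P.root a)))⁻¹) ^ (P.coroot a m.toAdd)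
  rw [h1, ofAdd_sub, ofAdd_zsmul, map_div, map_zpow, inv_zpow, div_eq_mul_inv]
  rfl

include hP h1 in
theorem conjT {a : idx} (ha : a ∈ b.support) {B : Type u} [CommRing B] (t : TPt M B) :
    nU R a B * tU R.wt t = tU R.wt (sT P a t) * nU R a B := by
  set s : Bˣ := (t (Multiplicative.ofAdd (P.root a)))⁻¹ with hs
  have hch : TPt.ch (P.root a) t = ((s⁻¹ : Bˣ) : B) := by rw [hs, inv_inv]; rfl
  have hUT : ∀ x : B, R.U a x * tU R.wt t = tU R.wt t * R.U a ((s : B) * x) := by
    intro x
    rw [tU_mul_U, hch]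
    congr 2
    have : ((s⁻¹ : Bˣ) : B) * (s : B) = 1 := s.inv_mul
    linear_combination (-x) * this
  have hch' : TPt.ch (P.root (P.reflectionPerm a a)) t = (s : B) := by
    rw [P.root_reflectionPerm, P.reflection_apply_self, hs]
    simp only [TPt.ch, ofAdd_neg, map_inv]
  have hUT' : ∀ x : B, R.U (P.reflectionPerm a a) x * tU R.wt t =
      tU R.wt t * R.U (P.reflectionPerm a a) (((s⁻¹ : Bˣ) : B) * x) := by
    intro x
    rw [tU_mul_U, hch']
    congr 2
    have : (s : B) * ((s⁻¹ : Bˣ) : B) = 1 := s.mul_inv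
    linear_combination (-x) * this
  have h2 : nU R a B * tU R.wt t = tU R.wt t * (R.U a (s : B) *
      R.U (P.reflectionPerm a a) (-((s⁻¹ : Bˣ) : B)) * R.U a (s : B)) := by
    rw [nU, mul_assoc, hUT, ← mul_assoc, mul_assoc (R.U a 1), hUT', ← mul_assoc, hUT]
    simp only [mul_one, mul_neg, mul_assoc]
  rw [h2, nU_smul R hP h1 ha, ← mul_assoc, ← map_mul, sT_eq hP]

end conj

section final

variable [Finite idx] [Module.Free ℤ M] [Module.Finite ℤ M]

open Transfer Transfer.RootMat

/-- Root matrices with the rank one relation give a Chevalley system. -/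
theorem nonempty_chevSys_of_rootMat (hP : P.toLinearMap = Module.Dual.eval ℤ M)
    (h1 : Rank1.{u} b R) : Nonempty (ChevSys.{u} P b) := by
  obtain ⟨G, n, hn, hG⟩ := exists_grad b
  obtain ⟨G', n', hn', hG'⟩ := exists_grad_neg b
  have hneg : ∀ a, P.root (P.reflectionPerm a a) = -P.root a := fun a => by
    rw [P.root_reflectionPerm, P.reflection_apply_self]
  have hnegneg : ∀ a, P.reflectionPerm (P.reflectionPerm a a) (P.reflectionPerm a a) = a := fun a =>
    P.root.injective (by rw [hneg, hneg, neg_neg])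
  have hpos1 : ∀ a ∈ b.support, b.height a = 1 := fun a ha =>
    RootPairing.Base.height_one_of_mem_support ha
  have hnegh : ∀ a, b.height (P.reflectionPerm a a) = -b.height a := fun a =>
    b.height_reflectionPerm_self a
  -- membership
  have hm : ∀ a, a ∈ G.L ↔ b.IsPos a := fun a => by
    rw [G.mem, hG, RootPairing.Base.isPos_iff]
    exact mul_pos_iff_of_pos_left hn
  have hm' : ∀ a, a ∈ G'.L ↔ ¬ b.IsPos a := fun a => by
    rw [G'.mem, hG', RootPairing.Base.isPos_iff, not_lt]
    constructor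
    · intro h
      by_contra h2
      have : 0 < n' * b.height a := mul_pos hn' (not_le.mp h2)
      omega
    · intro h
      have h2 : 0 < -b.height a := by
        have := b.height_ne_zero a
        omega
      have := mul_pos hn' h2
      rw [mul_neg] at this
      exact this
  have hmin : ∀ a ∈ b.support, a ∈ G.L ∧ ∀ c ∈ G.L, G.l (P.root a) ≤ G.l (P.root c) := by
    intro a ha
    refine ⟨(hm a).mpr (RootPairing.Base.isPos_of_mem_support ha), fun c hc => ?_⟩
    have h2 := (hm c).mp hc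
    rw [RootPairing.Base.isPos_iff] at h2
    rw [hG, hG, hpos1 a ha]
    exact mul_le_mul_of_nonneg_left (by omega) hn.le
  have hmin' : ∀ a ∈ b.support, P.reflectionPerm a a ∈ G'.L ∧
      ∀ c ∈ G'.L, G'.l (P.root (P.reflectionPerm a a)) ≤ G'.l (P.root c) := by
    intro a ha
    refine ⟨?_, fun c hc => ?_⟩
    · rw [hm', RootPairing.Base.isPos_iff, hnegh, hpos1 a ha]; omega
    · have h2 := (hm' c).mp hc
      rw [RootPairing.Base.isPos_iff] at h2
      have h3 := b.height_ne_zero c
      rw [hG', hG', hnegh, hpos1 a ha]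
      have h4 : n' * b.height c ≤ n' * (-1) := mul_le_mul_of_nonneg_left (by omega) hn'.le
      omega
  have hcoe : ∀ (L : List idx) {B : Type u} [CommRing B] (x : idx → B),
      (R.pr L x : Matrix R.J R.J B) = (L.map fun a => uMat (R.E a) R.N (x a)).prod :=
    fun L {B} _ x => R.coe_pr L x
  refine ⟨{
    J := R.J
    wt := R.wt
    span_wt := R.span_wt
    N := R.N
    E := R.E
    E_zero := R.E_zero
    E_mul := R.E_mul
    E_van := R.E_van
    E_wt := R.E_wt
    phi := R.phi
    phi_E := R.phi_E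
    phi_wt := R.phi_wt
    posL := G.L
    posL_nodup := G.nd
    mem_posL := hm
    posL_sorted := G.srt.imp fun {a c} h => ?_
    negL := G'.L
    negL_nodup := G'.nd
    mem_negL := hm'
    negL_sorted := G'.srt.imp fun {a c} h => ?_
    rank1 := h1
    comm := ?_
    conjT := ?_
    conj := fun a ha c => conj_E R ha c
    pos_mul := ?_
    pos_inv := ?_
    neg_mul := ?_
    neg_inv := ?_
    pos_norm := ?_
    neg_norm := ?_ }⟩
  · rw [hG, hG] at h
    exact le_of_mul_le_mul_left h hn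
  · rw [hG', hG', neg_le_neg_iff] at h
    exact le_of_mul_le_mul_left h hn'
  · -- comm
    intro a ha c hc hac B _ x y
    refine commute_uMat R.N (commute_div (R.E_zero a) (R.E_mul a) (R.E_zero _) (R.E_mul _)
      (R.lie_nonroot a _ ?_ ?_)) x y
    · rw [hneg, ← sub_eq_add_neg, sub_ne_zero]
      exact fun h => hac (P.root.injective h)
    · rw [hneg, ← sub_eq_add_neg]
      exact b.sub_notMem_range_root ha hc
  · -- conjT
    intro a ha B _ t
    have h2 := congrArg (Units.val) (conjT R hP h1 ha t)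
    rw [Units.val_mul, Units.val_mul, coe_nU, coe_tU, coe_tU] at h2
    exact h2
  · -- pos_mul
    intro B _ x y
    obtain ⟨z, hz⟩ := exists_mul R G x y
    refine ⟨z, ?_, fun a ha => coord_mul R G hz a (hmin a ha).1 (hmin a ha).2⟩
    rw [← hcoe, ← hcoe, ← hcoe, ← Units.val_mul, hz]
  · -- pos_inv
    intro B _ x
    obtain ⟨z, hz⟩ := exists_inv R G x
    refine ⟨z, ?_⟩
    rw [← hcoe, ← hcoe, ← Units.val_mul, ← hz, mul_inv_cancel, Units.val_one]
  · -- neg_mul
    intro B _ x y
    obtain ⟨z, hz⟩ := exists_mul R G' x y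
    refine ⟨z, ?_, fun a ha => coord_mul R G' hz _ (hmin' a ha).1 (hmin' a ha).2⟩
    rw [← hcoe, ← hcoe, ← hcoe, ← Units.val_mul, hz]
  · -- neg_inv
    intro B _ x
    obtain ⟨z, hz⟩ := exists_inv R G' x
    refine ⟨z, ?_⟩
    rw [← hcoe, ← hcoe, ← Units.val_mul, ← hz, mul_inv_cancel, Units.val_one]
  · -- pos_norm
    intro a ha B _ t x hx
    obtain ⟨la, h0, hla⟩ := exists_functional_levi b ha
    obtain ⟨z, hz0, hz⟩ := exists_norm R G a (P.reflectionPerm a a) (hmin a ha).1 (hmin a ha).2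
      (hneg a) la h0 (fun c hc hca => hla c ((hm c).mp hc) hca) t x hx
    refine ⟨z, hz0, ?_⟩
    rw [mul_inv_eq_iff_eq_mul] at hz
    have h2 := congrArg Units.val hz
    rw [Units.val_mul, Units.val_mul, hcoe, hcoe] at h2
    exact h2
  · -- neg_norm
    intro a ha B _ t x hx
    obtain ⟨la, h0, hla⟩ := exists_functional_levi b ha
    obtain ⟨z, hz0, hz⟩ := exists_norm R G' (P.reflectionPerm a a) a (hmin' a ha).1
      (hmin' a ha).2 (by rw [hneg, neg_neg]) (-la)
      (by rw [AddMonoidHom.neg_apply, hneg, map_neg, h0, neg_zero, neg_zero])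
      (fun c hc hca => by
        have h2 : b.IsPos (P.reflectionPerm c c) := by
          have := (hm' c).mp hc
          rw [RootPairing.Base.isPos_iff] at this ⊢
          have h3 := b.height_ne_zero c
          rw [hnegh]; omega
        have h4 := hla _ h2 (fun h => hca (by rw [← h, hnegneg]))
        rw [hneg, map_neg] at h4
        rwa [AddMonoidHom.neg_apply]) t x hx
    refine ⟨z, hz0, ?_⟩
    rw [mul_inv_eq_iff_eq_mul] at hz
    have h2 := congrArg Units.val hz
    rw [Units.val_mul, Units.val_mul, hcoe, hcoe] at h2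
    exact h2

end final

end Groth.Agent.RedSub.H630.Assemble
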