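import Groth.Agent.RedSub.H630.Levels
import Mathlib.LinearAlgebra.Matrix.Block
import Mathlib.LinearAlgebra.Matrix.NonsingularInverse

/-!
# Block LU decompositions with respect to a grading descend along injective ring maps
-/

set_option autoImplicit false

open Matrix Groth.Agent.RedSub.H630.Levels

namespace Groth.Agent.RedSub.H630.BlockLU

/-- unitriangular matrices have determinant one -/
theorem det_eq_one {I : Type*} [Fintype I] [DecidableEq I] {B : Type*} [CommRing B] (e : I → ℤ)
    (Y : Matrix I I B) (h : ∀ i j, (Y - 1) i j ≠ 0 → e j < e i) : Y.det = 1 := by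
  classical
  have hoff : ∀ i j, i ≠ j → ¬ e j < e i → Y i j = 0 := by
    intro i j hij hlt
    by_contra h0
    exact hlt (h i j (by rw [Matrix.sub_apply, Matrix.one_apply_ne hij, sub_zero]; exact h0))
  have hdiag : ∀ i, Y i i = 1 := by
    intro i
    by_contra h0
    exact lt_irrefl _ (h i i (by
      rw [Matrix.sub_apply, Matrix.one_apply_eq]; exact sub_ne_zero.mpr h0))
  have hbt : BlockTriangular Y (fun i => -e i) := by
    intro i j hij
    refine hoff i j ?_ ?_
    · rintro rfl; exact lt_irrefl _ hij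
    · have hij' : -e j < -e i := hij
      omega
  rw [hbt.det]
  refine Finset.prod_eq_one fun a _ => ?_
  have h1 : Y.toSquareBlock (fun i => -e i) a = 1 := by
    ext ⟨i, hi⟩ ⟨j, hj⟩
    rw [Matrix.toSquareBlock_def]
    by_cases hij : i = j
    · subst hij
      simpa using hdiag i
    · rw [Matrix.of_apply, Matrix.one_apply_ne (fun h => hij (congrArg Subtype.val h))]
      exact hoff i j hij (by omega)
  rw [h1, det_one]

variable {J : Type*} [Fintype J] [DecidableEq J] (d : J → ℤ) {B : Type*} [CommRing B]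

/-- the block of the indices of degree `≥ k` -/
def blk (k : ℤ) (m : Matrix J J B) : Matrix {j // k ≤ d j} {j // k ≤ d j} B :=
  m.submatrix Subtype.val Subtype.val

/-- the rows of the indices of degree `≥ k` -/
def rows (k : ℤ) (m : Matrix J J B) : Matrix {j // k ≤ d j} J B :=
  m.submatrix Subtype.val id

variable {d} {k : ℤ}

theorem sum_subtype_of_forall {J B : Type*} [Fintype J] [AddCommMonoid B] (p : J → Prop)
    [DecidablePred p] (f : J → B) (h : ∀ l, ¬ p l → f l = 0) :
    ∑ l, f l = ∑ l : {l // p l}, f l := by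
  rw [← Finset.sum_subtype (Finset.univ.filter p) (by simp) f, Finset.sum_filter]
  refine Finset.sum_congr rfl fun l _ => ?_
  split_ifs with hl
  · rfl
  · exact h l hl

omit [DecidableEq J] in
theorem rows_mul {X Y : Matrix J J B} (hX : ∀ i j, X i j ≠ 0 → d i ≤ d j) :
    rows d k (X * Y) = blk d k X * rows d k Y := by
  ext ⟨i, hi⟩ j
  rw [rows, Matrix.submatrix_apply, Matrix.mul_apply, Matrix.mul_apply,
    sum_subtype_of_forall (fun l => k ≤ d l)]
  · rfl
  · intro l hl
    by_contra h0
    exact hl (hi.trans (hX i l (left_ne_zero_of_mul h0)))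

omit [DecidableEq J] in
theorem blk_mul {X Y : Matrix J J B} (hX : ∀ i j, X i j ≠ 0 → d i ≤ d j) :
    blk d k (X * Y) = blk d k X * blk d k Y := by
  have h := rows_mul (k := k) (Y := Y) hX
  ext i j
  exact congrFun (congrFun h i) j

omit [DecidableEq J] in
theorem blk_mul' {X Y : Matrix J J B} (hY : ∀ i j, Y i j ≠ 0 → d j ≤ d i) :
    blk d k (X * Y) = blk d k X * blk d k Y := by
  ext ⟨i, hi⟩ ⟨j, hj⟩
  rw [blk, Matrix.submatrix_apply, Matrix.mul_apply, Matrix.mul_apply,
    sum_subtype_of_forall (fun l => k ≤ d l)]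
  · rfl
  · intro l hl
    by_contra h0
    exact hl (hj.trans (hY l j (right_ne_zero_of_mul h0)))

variable (d) in
/-- the product of the leading block minors -/
def dd (m : Matrix J J B) : B := ∏ k ∈ Finset.univ.image d, (blk d k m).det

theorem dd_map {C : Type*} [CommRing C] (f : B →+* C) (m : Matrix J J B) :
    dd d (m.map f) = f (dd d m) := by
  rw [dd, dd, map_prod]
  refine Finset.prod_congr rfl fun k _ => ?_
  rw [RingHom.map_det]; rfl

section ldu

variable {n p : Matrix J J B} {τ : J → B}

omit [Fintype J] in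
theorem lower_le (hn : Lev (fun j => -d j) 1 (n - 1)) : ∀ i j, n i j ≠ 0 → d i ≤ d j := by
  intro i j h
  by_cases hij : i = j
  · rw [hij]
  · have : 1 ≤ -d i - -d j :=
      hn i j (by rw [Matrix.sub_apply, Matrix.one_apply_ne hij, sub_zero]; exact h)
    omega

omit [Fintype J] in
theorem upper_le (hp : Lev d 1 (p - 1)) : ∀ i j, p i j ≠ 0 → d j ≤ d i := by
  intro i j h
  by_cases hij : i = j
  · rw [hij]
  · have := hp i j (by rw [Matrix.sub_apply, Matrix.one_apply_ne hij, sub_zero]; exact h)
    omega

omit [Fintype J] in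
theorem blk_one : blk d k (1 : Matrix J J B) = 1 := by
  ext ⟨i, hi⟩ ⟨j, hj⟩
  simp only [blk, Matrix.submatrix_apply, Matrix.one_apply, Subtype.mk.injEq]

theorem det_lower (hn : Lev (fun j => -d j) 1 (n - 1)) : (blk d k n).det = 1 := by
  refine det_eq_one (fun i : {j // k ≤ d j} => -d i) _ fun i j h => ?_
  have h1 : (n - 1) i j ≠ 0 := by
    intro h0
    apply h
    have : (blk d k n - 1) i j = (n - 1) i j := by
      rw [Matrix.sub_apply, Matrix.sub_apply, ← blk_one (d := d) (k := k)]; rfl
    rw [this, h0]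
  have : 1 ≤ -d i - -d j := hn i j h1
  omega

theorem det_upper (hp : Lev d 1 (p - 1)) : (blk d k p).det = 1 := by
  refine det_eq_one (fun i : {j // k ≤ d j} => d i) _ fun i j h => ?_
  have h1 : (p - 1) i j ≠ 0 := by
    intro h0
    apply h
    have : (blk d k p - 1) i j = (p - 1) i j := by
      rw [Matrix.sub_apply, Matrix.sub_apply, ← blk_one (d := d) (k := k)]; rfl
    rw [this, h0]
  have := hp i j h1
  omega

theorem det_upper' (hp : Lev d 1 (p - 1)) : p.det = 1 := by
  refine det_eq_one d _ fun i j h => ?_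
  have := hp i j h
  omega

theorem blk_ldu (hn : Lev (fun j => -d j) 1 (n - 1)) (hp : Lev d 1 (p - 1)) :
    blk d k (n * Matrix.diagonal τ * p) = blk d k n * blk d k (Matrix.diagonal τ) * blk d k p := by
  rw [blk_mul' (upper_le hp), blk_mul (lower_le hn)]

theorem det_blk (hn : Lev (fun j => -d j) 1 (n - 1)) (hp : Lev d 1 (p - 1)) :
    (blk d k (n * Matrix.diagonal τ * p)).det = ∏ j : {j // k ≤ d j}, τ j := by
  rw [blk_ldu hn hp, det_mul, det_mul, det_lower hn, det_upper hp, one_mul, mul_one]
  have : blk d k (Matrix.diagonal τ) = Matrix.diagonal fun j : {j // k ≤ d j} => τ j := by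
    ext ⟨i, hi⟩ ⟨j, hj⟩
    simp only [blk, Matrix.submatrix_apply, Matrix.diagonal_apply, Subtype.mk.injEq]
  rw [this, det_diagonal]

theorem isUnit_dd (hn : Lev (fun j => -d j) 1 (n - 1)) (hp : Lev d 1 (p - 1))
    (hτ : ∀ j, IsUnit (τ j)) : IsUnit (dd d (n * Matrix.diagonal τ * p)) := by
  rw [dd]
  refine Finset.prod_induction _ IsUnit (fun a b => IsUnit.mul) isUnit_one fun k _ => ?_
  rw [det_blk hn hp]
  exact Finset.prod_induction _ IsUnit (fun a b => IsUnit.mul) isUnit_one fun j _ => hτ j

/-- Block LU decompositions descend along injective ring maps. -/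
theorem ldu_lift {A : Type*} [CommRing A] (f : A →+* B) (hf : Function.Injective f)
    (m : Matrix J J A) (hn : Lev (fun j => -d j) 1 (n - 1)) (hp : Lev d 1 (p - 1))
    (hm : m.map f = n * Matrix.diagonal τ * p) (hu : IsUnit (dd d m)) :
    ∃ (n' p' : Matrix J J A) (τ' : J → Aˣ), n'.map f = n ∧ p'.map f = p ∧
      (∀ j, f (τ' j : A) = τ j) ∧ m = n' * Matrix.diagonal (fun j => (τ' j : A)) * p' := by
  classical
  have hmapinj : ∀ X Y : Matrix J J A, X.map f = Y.map f → X = Y := by
    intro X Y h
    ext i j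
    exact hf (congrFun (congrFun h i) j)
  have hmapmul : ∀ X Y : Matrix J J A, (X * Y).map f = X.map f * Y.map f := fun X Y =>
    Matrix.map_mul
  have hdet : ∀ j, IsUnit (blk d (d j) m).det := by
    intro j
    exact isUnit_of_dvd_unit (Finset.dvd_prod_of_mem (fun k => (blk d k m).det)
      (Finset.mem_image_of_mem d (Finset.mem_univ j))) hu
  -- the upper part
  let p' : Matrix J J A := Matrix.of fun i j =>
    ((blk d (d i) m)⁻¹ * rows d (d i) m) ⟨i, le_rfl⟩ j
  have hp' : p'.map f = p := by
    ext i j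
    set k := d i with hk
    have h1 : (blk d k m)⁻¹ * blk d k m = 1 := Matrix.nonsing_inv_mul _ (hdet i)
    set Mi := ((blk d k m)⁻¹).map f with hMi
    have h2 : Mi * blk d k (m.map f) = 1 := by
      have : blk d k (m.map f) = (blk d k m).map f := rfl
      rw [this, hMi, ← Matrix.map_mul, h1]
      exact Matrix.map_one f (map_zero f) (map_one f)
    rw [hm, blk_ldu hn hp, ← mul_assoc] at h2
    set Z := Mi * (blk d k n * blk d k (Matrix.diagonal τ)) with hZ
    have h3 : blk d k p * Z = 1 := mul_eq_one_comm.mp h2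
    have hrow : ∀ l : {l // k ≤ d l}, (blk d k p) ⟨i, le_rfl⟩ l =
        (1 : Matrix {l // k ≤ d l} {l // k ≤ d l} B) ⟨i, le_rfl⟩ l := by
      rintro ⟨l, hl⟩
      by_cases hil : i = l
      · subst hil
        rw [Matrix.one_apply_eq]
        change p i i = 1
        by_contra h0
        have := hp i i (by rw [Matrix.sub_apply, Matrix.one_apply_eq]; exact sub_ne_zero.mpr h0)
        omega
      · rw [Matrix.one_apply_ne (fun h => hil (congrArg Subtype.val h))]
        change p i l = 0
        by_contra h0
        have := hp i l (by rw [Matrix.sub_apply, Matrix.one_apply_ne hil, sub_zero]; exact h0)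
        omega
    have hZrow : ∀ l : {l // k ≤ d l}, Z ⟨i, le_rfl⟩ l =
        (1 : Matrix {l // k ≤ d l} {l // k ≤ d l} B) ⟨i, le_rfl⟩ l := by
      intro l
      rw [← h3, Matrix.mul_apply]
      simp only [hrow]
      rw [← Matrix.mul_apply, Matrix.one_mul]
    have h4 : (Mi * rows d k (m.map f)) = Z * rows d k p := by
      rw [hm, rows_mul (X := n * Matrix.diagonal τ), blk_mul (lower_le hn), ← Matrix.mul_assoc]
      intro a c h
      by_cases hτc : (n a c) = 0
      · exfalso; apply h; rw [Matrix.mul_diagonal, hτc, zero_mul]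
      · exact lower_le hn a c hτc
    have h5 : (p'.map f) i j = (Mi * rows d k (m.map f)) ⟨i, le_rfl⟩ j := by
      have h6 : Mi * rows d k (m.map f) = ((blk d k m)⁻¹ * rows d k m).map f := by
        rw [Matrix.map_mul]; rfl
      rw [h6]; rfl
    rw [h5, h4, Matrix.mul_apply]
    simp only [hZrow]
    rw [← Matrix.mul_apply, Matrix.one_mul]
    rfl
  have hdetp : p'.det = 1 := by
    apply hf
    rw [map_one, RingHom.map_det]
    change (p'.map f).det = 1
    rw [hp', det_upper' hp]
  -- the rest
  set q : Matrix J J A := m * p'.adjugate with hq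
  have hqp : q * p' = m := by
    rw [hq, mul_assoc, Matrix.adjugate_mul, hdetp, one_smul, mul_one]
  have hqf : q.map f = n * Matrix.diagonal τ := by
    have h1 : q.map f * p = n * Matrix.diagonal τ * p := by
      rw [← hm, ← hp', ← hmapmul, hqp]
    have h2 : p * p.adjugate = 1 := by
      rw [Matrix.mul_adjugate, det_upper' hp, one_smul]
    calc q.map f = q.map f * (p * p.adjugate) := by rw [h2, mul_one]
      _ = n * Matrix.diagonal τ * p * p.adjugate := by rw [← mul_assoc, h1]
      _ = n * Matrix.diagonal τ := by rw [mul_assoc, h2, mul_one]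
  have hτ' : ∀ j, f (q j j) = τ j := by
    intro j
    have h1 := congrFun (congrFun hqf j) j
    rw [Matrix.mul_diagonal] at h1
    have h2 : n j j = 1 := by
      by_contra h0
      have := hn j j (by rw [Matrix.sub_apply, Matrix.one_apply_eq]; exact sub_ne_zero.mpr h0)
      omega
    rw [h2, one_mul] at h1
    exact h1
  have hunit : ∀ j, IsUnit (q j j) := by
    intro j
    have h1 : (blk d (d j) m).det = ∏ l : {l // d j ≤ d l}, q l l := by
      apply hf
      rw [RingHom.map_det, map_prod]
      have : f.mapMatrix (blk d (d j) m) = blk d (d j) (m.map f) := rfl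
      rw [this, hm, det_blk hn hp]
      exact Finset.prod_congr rfl fun l _ => (hτ' l).symm
    refine isUnit_of_dvd_unit ?_ (hdet j)
    rw [h1]
    exact Finset.dvd_prod_of_mem (fun l : {l // d j ≤ d l} => q l l)
      (Finset.mem_univ (⟨j, le_rfl⟩ : {l // d j ≤ d l}))
  refine ⟨q * Matrix.diagonal (fun j => (((hunit j).unit⁻¹ : Aˣ) : A)), p',
    fun j => (hunit j).unit, ?_, hp', fun j => hτ' j, ?_⟩
  · rw [hmapmul, hqf, mul_assoc]
    have h1 : Matrix.diagonal τ * (Matrix.diagonal (fun j => (((hunit j).unit⁻¹ : Aˣ) : A))).map f =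
        1 := by
      rw [Matrix.diagonal_map (map_zero f), Matrix.diagonal_mul_diagonal, ← Matrix.diagonal_one]
      congr 1
      funext j
      have h2 : τ j * f (((hunit j).unit⁻¹ : Aˣ) : A) = 1 := by
        rw [← hτ' j, ← map_mul, IsUnit.mul_val_inv, map_one]
      exact h2
    rw [h1, mul_one]
  · rw [mul_assoc (q), Matrix.diagonal_mul_diagonal]
    have h1 : (Matrix.diagonal fun i => (((hunit i).unit⁻¹ : Aˣ) : A) * ((hunit i).unit : A)) =
        (1 : Matrix J J A) := by
      rw [← Matrix.diagonal_one]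
      congr 1
      funext j
      rw [Units.inv_mul]
    rw [h1, mul_one, hqp]

/-- Uniqueness of LU decompositions. -/
theorem ldu_unique {n' p' : Matrix J J B} {τ' : J → B} (hn : Lev (fun j => -d j) 1 (n - 1))
    (hn' : Lev (fun j => -d j) 1 (n' - 1)) (hp : Lev d 1 (p - 1)) (hp' : Lev d 1 (p' - 1))
    (hτ : ∀ j, IsUnit (τ j)) (h : n * Matrix.diagonal τ * p = n' * Matrix.diagonal τ' * p') :
    n = n' ∧ τ = τ' ∧ p = p' := by
  have hdn : n'.det = 1 := det_eq_one (fun j => -d j) _ fun i j h => by
    have : 1 ≤ -d i - -d j := hn' i j h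
    omega
  have hdp : p.det = 1 := det_upper' hp
  have h1 : n' * n'.adjugate = 1 := by rw [Matrix.mul_adjugate, hdn, one_smul]
  have h1' : n'.adjugate * n' = 1 := by rw [Matrix.adjugate_mul, hdn, one_smul]
  have h2 : p * p.adjugate = 1 := by rw [Matrix.mul_adjugate, hdp, one_smul]
  have h2' : p.adjugate * p = 1 := by rw [Matrix.adjugate_mul, hdp, one_smul]
  set a := n'.adjugate with ha
  set c := p.adjugate with hc
  have hX : a * n * Matrix.diagonal τ = Matrix.diagonal τ' * (p' * c) := by
    calc a * n * Matrix.diagonal τ = a * n * Matrix.diagonal τ * (p * c) := by rw [h2, mul_one]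
      _ = a * (n * Matrix.diagonal τ * p) * c := by simp only [mul_assoc]
      _ = (a * n') * Matrix.diagonal τ' * (p' * c) := by
          rw [h]; simp only [mul_assoc]
      _ = _ := by rw [h1', one_mul]
  have hlow : Lev (fun j => -d j) 1 (a * n - 1) :=
    Lev.mul_sub_one zero_le_one (Lev.inv_sub_one h1 le_rfl hn') hn
  have hupp : Lev d 1 (p' * c - 1) :=
    Lev.mul_sub_one zero_le_one hp' (Lev.inv_sub_one h2 le_rfl hp)
  have hX1 : Lev (fun j => -d j) 1 (a * n * Matrix.diagonal τ - Matrix.diagonal τ) := by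
    have : a * n * Matrix.diagonal τ - Matrix.diagonal τ = (a * n - 1) * Matrix.diagonal τ := by
      rw [sub_mul, one_mul]
    rw [this]
    exact hlow.mul_right (Lev.diagonal _ le_rfl)
  have hX2 : Lev d 1 (a * n * Matrix.diagonal τ - Matrix.diagonal τ') := by
    have : a * n * Matrix.diagonal τ - Matrix.diagonal τ' = Matrix.diagonal τ' * (p' * c - 1) := by
      rw [hX, mul_sub, mul_one]
    rw [this]
    exact (Lev.diagonal _ le_rfl).mul_left hupp
  have hττ : τ = τ' := by
    funext j
    have e1 : (a * n * Matrix.diagonal τ - Matrix.diagonal τ) j j = 0 := by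
      by_contra h0
      have : 1 ≤ -d j - -d j := hX1 j j h0
      omega
    have e2 : (a * n * Matrix.diagonal τ - Matrix.diagonal τ') j j = 0 := by
      by_contra h0
      have := hX2 j j h0
      omega
    rw [Matrix.sub_apply, Matrix.diagonal_apply_eq, sub_eq_zero] at e1 e2
    rw [← e1, e2]
  subst hττ
  have hX0 : a * n * Matrix.diagonal τ - Matrix.diagonal τ = 0 := by
    ext i j
    by_contra h0
    have e1 : 1 ≤ -d i - -d j := hX1 i j h0
    have e2 := hX2 i j h0
    omega
  rw [sub_eq_zero] at hX0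
  have hD : IsUnit (Matrix.diagonal τ) := by
    rw [Matrix.isUnit_iff_isUnit_det, Matrix.det_diagonal]
    exact Finset.prod_induction _ IsUnit (fun a b => IsUnit.mul) isUnit_one fun j _ => hτ j
  have han : a * n = 1 := by
    refine hD.mul_left_injective ?_
    simp only [hX0, one_mul]
  have hpc : p' * c = 1 := by
    refine hD.mul_right_injective ?_
    simp only [← hX, hX0, mul_one]
  refine ⟨?_, rfl, ?_⟩
  · calc n = n' * (a * n) := by rw [← mul_assoc, h1, one_mul]
      _ = n' := by rw [han, mul_one]
  · calc p = (p' * c) * p := by rw [hpc, one_mul]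
      _ = p' := by rw [mul_assoc, h2', mul_one]

end ldu

end Groth.Agent.RedSub.H630.BlockLU
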