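import Groth.Agent.RedSub.H630.BlockLU
import Groth.Agent.RedSub.H630.Assemble
import Groth.Agent.Redsub.H631.Transfer

/-!
# Cell matrices of a Chevalley system

`cellM S x t = ∏_{a < 0} u_a(x_a) · t · ∏_{a > 0} u_a(x_a)` over any ring.

* `cellM_inj`: the coordinates of a cell matrix are unique, over every ring;
* `exists_lift_cell`: if `f : A → B` is injective, `m` is a matrix over `A` with `m.map f` a cell matrix over `B`
  and the product `dd (S.dg l) m` of the leading block minors is a unit of `A`, then `m` is a cell matrix over `A`;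
* `isUnit_dd_cellM`.
-/

set_option autoImplicit false
universe u

open Matrix Groth.Agent.RedSub.H630.ChevDefs Groth.Agent.RedSub.H630.Levels
  Groth.Agent.RedSub.H630.BlockLU Groth.Agent.Sga3B.Cell Groth.Agent.Redsub.H631.Transfer

namespace Groth.Agent.RedSub.H630.CellLift

variable {idx M : Type} [AddCommGroup M]
variable {P : RootPairing idx ℤ M (Module.Dual ℤ M)} {b : P.Base} (S : ChevSys.{u} P b)

/-- ordered products of root elements -/
noncomputable def prodM (L : List idx) {B : Type u} [CommRing B] (x : idx → B) :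
    Matrix S.J S.J B := (L.map fun a => uMat (S.E a) S.N (x a)).prod

/-- cell matrices -/
noncomputable def cellM {B : Type u} [CommRing B] (x : idx → B) (t : TPt M B) :
    Matrix S.J S.J B :=
  (S.negL.map fun a => uMat (S.E a) S.N (x a)).prod * tMat S.wt t *
    (S.posL.map fun a => uMat (S.E a) S.N (x a)).prod

theorem cellM_eq {B : Type u} [CommRing B] (x : idx → B) (t : TPt M B) :
    cellM S x t = prodM S S.negL x * tMat S.wt t * prodM S S.posL x := rfl

theorem tMat_map {J : Type} [Fintype J] [DecidableEq J] (wt : J → M) {B C : Type u} [CommRing B]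
    [CommRing C] (f : B →+* C) (t : TPt M B) :
    (tMat wt t).map f = tMat wt ((Units.map (f : B →* C)).comp t) := by
  rw [tMat, Matrix.diagonal_map (map_zero f)]
  rfl

theorem prodM_map (L : List idx) {B C : Type u} [CommRing B] [CommRing C] (f : B →+* C)
    (x : idx → B) : (prodM S L x).map f = prodM S L (fun a => f (x a)) := gp_map f L x

theorem cellM_map {B C : Type u} [CommRing B] [CommRing C] (f : B →+* C)
    (x : idx → B) (t : TPt M B) :
    (cellM S x t).map f = cellM S (fun a => f (x a)) ((Units.map (f : B →* C)).comp t) := by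
  rw [cellM_eq, cellM_eq, Matrix.map_mul, Matrix.map_mul, prodM_map, prodM_map, tMat_map]

/-- the degree function attached to a homomorphism -/
def dg (l : M →+ ℤ) (j : S.J) : ℤ := l (S.wt j)

/-- A height functional. -/
structure IsHt (b : P.Base) (l : M →+ ℤ) : Prop where
  pos : ∀ a, b.IsPos a → 0 < l (P.root a)
  neg : ∀ a, ¬ b.IsPos a → l (P.root a) < 0

theorem exists_isHt [Finite idx] [Module.Free ℤ M] [Module.Finite ℤ M] (b : P.Base) :
    ∃ l : M →+ ℤ, IsHt b l := by
  obtain ⟨l, n, hn, h⟩ := Sga3B.PinComb.exists_height_functional b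
  refine ⟨l, fun a ha => ?_, fun a ha => ?_⟩
  · rw [h]; exact mul_pos hn ha
  · rw [h]
    have h1 := b.height_ne_zero a
    rw [RootPairing.Base.isPos_iff] at ha
    have h2 : b.height a < 0 := by omega
    nlinarith

theorem two_le [Nonempty idx] : 2 ≤ S.N := by
  by_contra h
  obtain ⟨a⟩ := ‹Nonempty idx›
  have h1 := S.phi_E a
  rw [S.E_van a 1 (by omega), map_zero] at h1
  exact zero_ne_one h1

theorem rootMat [Nonempty idx] :
    Redsub.H631.Transfer.RootMat P.root S.wt S.N S.E S.phi where
  inj := P.root.injective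
  E_zero := S.E_zero
  E_wt := S.E_wt
  phi_E := S.phi_E
  phi_wt := S.phi_wt
  two_le := two_le S

theorem lev_prodM (l : M →+ ℤ) (L : List idx) (hL : ∀ a ∈ L, 0 < l (P.root a)) {B : Type u}
    [CommRing B] (x : idx → B) : Lev (dg S l) 1 (prodM S L x - 1) := by
  cases isEmpty_or_nonempty idx with
  | inl h =>
    have : L = [] := List.eq_nil_iff_forall_not_mem.mpr fun a _ => h.elim a
    subst this
    rw [prodM, List.map_nil, List.prod_nil, sub_self]
    exact Lev.zero
  | inr h =>
    intro j k hjk
    have h1 := (gp_sub_one (l := l) (rootMat S) L hL x) j k hjk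
    rw [dg, dg]; omega

variable {S}

theorem lev_pos {l : M →+ ℤ} (hl : IsHt b l) {B : Type u} [CommRing B] (x : idx → B) :
    Lev (dg S l) 1 (prodM S S.posL x - 1) :=
  lev_prodM S l _ (fun a ha => hl.pos a ((S.mem_posL a).mp ha)) x

theorem lev_neg {l : M →+ ℤ} (hl : IsHt b l) {B : Type u} [CommRing B] (x : idx → B) :
    Lev (fun j => -dg S l j) 1 (prodM S S.negL x - 1) := by
  have h := lev_prodM S (-l) S.negL (fun a ha => by
    have := hl.neg a ((S.mem_negL a).mp ha)
    rw [AddMonoidHom.neg_apply]; omega) x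
  intro j k hjk
  have h1 := h j k hjk
  rw [dg, dg, AddMonoidHom.neg_apply, AddMonoidHom.neg_apply] at h1
  simp only [dg]
  omega

theorem isUnit_ch {B : Type u} [CommRing B] (m : M) (t : TPt M B) : IsUnit (TPt.ch m t) :=
  (t (Multiplicative.ofAdd m)).isUnit

theorem isUnit_dd_cellM {l : M →+ ℤ} (hl : IsHt b l) {B : Type u} [CommRing B] (x : idx → B)
    (t : TPt M B) : IsUnit (dd (dg S l) (cellM S x t)) :=
  isUnit_dd (lev_neg hl x) (lev_pos hl x) fun j => isUnit_ch (S.wt j) t

/-- torus points are determined by the values of the weights -/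
theorem tpt_ext {B : Type u} [CommRing B] {t t' : TPt M B}
    (h : ∀ j, TPt.ch (S.wt j) t = TPt.ch (S.wt j) t') : t = t' := by
  have key : ∀ m : M, t (Multiplicative.ofAdd m) = t' (Multiplicative.ofAdd m) := by
    intro m
    have hm : m ∈ Submodule.span ℤ (Set.range S.wt) := by rw [S.span_wt]; trivial
    refine Submodule.span_induction
      (p := fun m _ => t (Multiplicative.ofAdd m) = t' (Multiplicative.ofAdd m)) ?_ ?_ ?_ ?_ hm
    · rintro _ ⟨j, rfl⟩
      exact Units.ext (h j)
    · rw [ofAdd_zero, map_one, map_one]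
    · intro x y _ _ hx hy
      rw [ofAdd_add, map_mul, map_mul, hx, hy]
    · intro c x _ hx
      rw [ofAdd_zsmul, map_zpow, map_zpow, hx]
  exact MonoidHom.ext fun m => key m.toAdd

theorem prodM_congr (L : List idx) {B : Type u} [CommRing B] {x y : idx → B}
    (h : ∀ a ∈ L, x a = y a) : prodM S L x = prodM S L y := gp_congr h

/-- The coordinates of a cell matrix are unique. -/
theorem cellM_inj [Finite idx] [Module.Free ℤ M] [Module.Finite ℤ M] {B : Type u} [CommRing B]
    {x x' : idx → B} {t t' : TPt M B} (h : cellM S x t = cellM S x' t') : x = x' ∧ t = t' := by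
  obtain ⟨l, hl⟩ := exists_isHt b
  obtain ⟨h1, h2, h3⟩ := ldu_unique (lev_neg (S := S) hl x) (lev_neg hl x') (lev_pos hl x)
    (lev_pos hl x') (fun j => isUnit_ch (S.wt j) t) h
  refine ⟨?_, tpt_ext (S := S) fun j => congrFun h2 j⟩
  funext a
  have : Nonempty idx := ⟨a⟩
  by_cases ha : b.IsPos a
  · exact gp_inj (rootMat S) (l := l) S.posL S.posL_nodup
      (fun c hc => hl.pos c ((S.mem_posL c).mp hc)) h3 a ((S.mem_posL a).mpr ha)
  · exact gp_inj (rootMat S) (l := -l) S.negL S.negL_nodup
      (fun c hc => by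
        have := hl.neg c ((S.mem_negL c).mp hc)
        rw [AddMonoidHom.neg_apply]; omega) h1 a ((S.mem_negL a).mpr ha)

theorem exists_lift_prodM {l : M →+ ℤ} (L : List idx) (hnd : L.Nodup)
    (hL : ∀ a ∈ L, 0 < l (P.root a)) {A B : Type u} [CommRing A] [CommRing B] (f : A →+* B)
    (hf : Function.Injective f) (g : Matrix S.J S.J A) (c : idx → B)
    (hg : g.map f = prodM S L c) : ∃ z : idx → A, (∀ a ∈ L, f (z a) = c a) ∧ g = prodM S L z := by
  cases isEmpty_or_nonempty idx with
  | inl h =>
    have : L = [] := List.eq_nil_iff_forall_not_mem.mpr fun a _ => h.elim a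
    subst this
    refine ⟨fun a => h.elim a, fun a _ => h.elim a, ?_⟩
    rw [prodM, List.map_nil, List.prod_nil] at hg ⊢
    ext i j
    apply hf
    have h1 := congrFun (congrFun hg i) j
    rw [Matrix.map_apply] at h1
    rw [h1, ← Matrix.map_one f (map_zero f) (map_one f)]
    rfl
  | inr h => exact exists_lift (rootMat S) (l := l) L hnd hL f hf g c hg

/-- Torus points descend along injective ring maps as soon as the weights do. -/
theorem exists_lift_tpt {A B : Type u} [CommRing A] [CommRing B] (f : A →+* B)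
    (hf : Function.Injective f) (t : TPt M B) (τ : S.J → Aˣ)
    (hτ : ∀ j, f (τ j : A) = TPt.ch (S.wt j) t) :
    ∃ t' : TPt M A, (Units.map (f : A →* B)).comp t' = t := by
  have hinj : Function.Injective (Units.map (f : A →* B)) := by
    intro x y h
    exact Units.ext (hf (congrArg Units.val h))
  have key : ∀ m : M, t (Multiplicative.ofAdd m) ∈ (Units.map (f : A →* B)).range := by
    intro m
    have hm : m ∈ Submodule.span ℤ (Set.range S.wt) := by rw [S.span_wt]; trivial
    refine Submodule.span_induction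
      (p := fun m _ => t (Multiplicative.ofAdd m) ∈ (Units.map (f : A →* B)).range) ?_ ?_ ?_ ?_ hm
    · rintro _ ⟨j, rfl⟩
      exact ⟨τ j, Units.ext (hτ j)⟩
    · rw [ofAdd_zero, map_one]; exact one_mem _
    · intro x y _ _ hx hy
      rw [ofAdd_add, map_mul]; exact mul_mem hx hy
    · intro c x _ hx
      rw [ofAdd_zsmul, map_zpow]; exact zpow_mem hx c
  let e := MonoidHom.ofInjective hinj
  refine ⟨(e.symm.toMonoidHom).comp (t.codRestrict _ fun m => key m.toAdd), ?_⟩
  refine MonoidHom.ext fun m => ?_
  have h1 : ∀ y : (Units.map (f : A →* B)).range, Units.map (f : A →* B) (e.symm y) = y := by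
    intro y
    have h2 := congrArg Subtype.val (e.apply_symm_apply y)
    exact h2
  exact h1 _

/-- **Cell matrices descend** along injective ring maps when the leading block minors are units. -/
theorem exists_lift_cell {l : M →+ ℤ} (hl : IsHt b l) {A B : Type u} [CommRing A] [CommRing B]
    (f : A →+* B) (hf : Function.Injective f) (m : Matrix S.J S.J A) (x : idx → B) (t : TPt M B)
    (hm : m.map f = cellM S x t) (hu : IsUnit (dd (dg S l) m)) :
    ∃ (x' : idx → A) (t' : TPt M A), (∀ a, f (x' a) = x a) ∧
      (Units.map (f : A →* B)).comp t' = t ∧ m = cellM S x' t' := by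
  classical
  obtain ⟨n', p', τ', hn, hp, hτ, hmeq⟩ := ldu_lift (d := dg S l) f hf m (lev_neg hl x)
    (lev_pos hl x) hm hu
  obtain ⟨t', ht'⟩ := exists_lift_tpt f hf t τ' hτ
  obtain ⟨z, hz, hz'⟩ := exists_lift_prodM (l := -l) S.negL S.negL_nodup (fun c hc => by
        have := hl.neg c ((S.mem_negL c).mp hc)
        rw [AddMonoidHom.neg_apply]; omega) f hf n' x hn
  obtain ⟨y, hy, hy'⟩ := exists_lift_prodM (l := l) S.posL S.posL_nodup
    (fun c hc => hl.pos c ((S.mem_posL c).mp hc)) f hf p' x hp
  let x' : idx → A := fun a => if b.IsPos a then y a else z a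
  refine ⟨x', t', fun a => ?_, ht', ?_⟩
  · by_cases ha : b.IsPos a
    · simp only [x', if_pos ha]; exact hy a ((S.mem_posL a).mpr ha)
    · simp only [x', if_neg ha]; exact hz a ((S.mem_negL a).mpr ha)
  · have h1 : prodM S S.negL x' = n' := by
      rw [hz']
      exact prodM_congr _ fun a ha => by simp only [x', if_neg ((S.mem_negL a).mp ha)]
    have h2 : prodM S S.posL x' = p' := by
      rw [hy']
      exact prodM_congr _ fun a ha => by simp only [x', if_pos ((S.mem_posL a).mp ha)]
    have h3 : tMat S.wt t' = Matrix.diagonal fun j => (τ' j : A) := by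
      rw [tMat]
      congr 1
      funext j
      apply hf
      rw [hτ j, ← ht']
      rfl
    rw [cellM_eq, h1, h2, h3, hmeq]

end Groth.Agent.RedSub.H630.CellLift
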