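import Groth.Agent.RedSub.H630.UMat
import Mathlib.RingTheory.Localization.FractionRing

/-!
# Coordinates on the unipotent groups generated by root matrices
-/

set_option autoImplicit false
universe u

open Matrix Groth.Agent.RedSub.H630.ChevDefs Groth.Agent.RedSub.H630.Levels
  Groth.Agent.RedSub.H630.UMat

namespace Groth.Agent.RedSub.H630.Coords

variable {idx M : Type} [AddCommGroup M]

/-- Root matrices for all roots. -/
structure RootMat (P : RootPairing idx ℤ M (Module.Dual ℤ M)) (b : P.Base) where
  /-- index set of the basis of weight vectors -/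
  J : Type
  [fintypeJ : Fintype J]
  [decEqJ : DecidableEq J]
  /-- the weights -/
  wt : J → M
  span_wt : Submodule.span ℤ (Set.range wt) = ⊤
  /-- a bound for the degree of nilpotency -/
  N : ℕ
  N_pos : 0 < N
  /-- the divided powers of the root matrices -/
  E : idx → ℕ → Matrix J J ℤ
  E_zero : ∀ a, E a 0 = 1
  E_mul : ∀ a m n, E a m * E a n = ((m + n).choose m : ℤ) • E a (m + n)
  E_van : ∀ a n, N ≤ n → E a n = 0
  E_wt : ∀ a n, IsWt wt (n • P.root a) (E a n)
  /-- a functional on matrices taking the value `1` on the root matrix, killing other weights -/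
  phi : idx → Matrix J J ℤ →ₗ[ℤ] ℤ
  phi_E : ∀ a, phi a (E a 1) = 1
  phi_wt : ∀ a m, m ≠ P.root a → ∀ X, IsWt wt m X → phi a X = 0
  lie_root : ∀ a c d, P.root d = P.root a + P.root c →
    ∃ r : ℤ, E a 1 * E c 1 - E c 1 * E a 1 = r • E d 1
  lie_nonroot : ∀ a c, P.root a + P.root c ≠ 0 → P.root a + P.root c ∉ Set.range P.root →
    E a 1 * E c 1 = E c 1 * E a 1
  lie_opp : ∀ a, E a 1 * E (P.reflectionPerm a a) 1 - E (P.reflectionPerm a a) 1 * E a 1 =
    Matrix.diagonal fun j => P.coroot' a (wt j)
  conj : ∀ i ∈ b.support, ∀ c, ∃ r : ℤˣ, ∀ n,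
    (uMat (E i) N (1 : ℤ) * uMat (E (P.reflectionPerm i i)) N (-1) * uMat (E i) N 1) * E c n =
      ((r : ℤ) ^ n) • (E (P.reflectionPerm i c) n *
        (uMat (E i) N (1 : ℤ) * uMat (E (P.reflectionPerm i i)) N (-1) * uMat (E i) N 1))

attribute [instance] RootMat.fintypeJ RootMat.decEqJ

/-- the extension of a functional to matrices over a ring -/
noncomputable def phiB {J : Type} [Fintype J] [DecidableEq J] (phi : Matrix J J ℤ →ₗ[ℤ] ℤ)
    (B : Type*) [CommRing B] : Matrix J J B →ₗ[B] B where
  toFun X := ∑ j, ∑ k, X j k * ((phi (Matrix.single j k 1) : ℤ) : B)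
  map_add' X Y := by
    simp only [Matrix.add_apply, add_mul, Finset.sum_add_distrib]
  map_smul' c X := by
    simp only [Matrix.smul_apply, smul_eq_mul, RingHom.id_apply, Finset.mul_sum, mul_assoc]

section phi

variable {J : Type} [Fintype J] [DecidableEq J] (phi : Matrix J J ℤ →ₗ[ℤ] ℤ)

theorem phiB_apply {B : Type*} [CommRing B] (X : Matrix J J B) :
    phiB phi B X = ∑ j, ∑ k, X j k * ((phi (Matrix.single j k 1) : ℤ) : B) := rfl

theorem phiB_map {B C : Type*} [CommRing B] [CommRing C] (f : B →+* C) (X : Matrix J J B) :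
    phiB phi C (X.map f) = f (phiB phi B X) := by
  simp only [phiB_apply, Matrix.map_apply, map_sum, map_mul, map_intCast]

theorem phiB_int (X : Matrix J J ℤ) : phiB phi ℤ X = phi X := by
  conv_rhs => rw [Matrix.matrix_eq_sum_single X]
  rw [phiB_apply, map_sum]
  refine Finset.sum_congr rfl fun j _ => ?_
  rw [map_sum]
  refine Finset.sum_congr rfl fun k _ => ?_
  have : Matrix.single j k (X j k) = (X j k) • (Matrix.single j k 1 : Matrix J J ℤ) := by
    rw [Matrix.smul_single, smul_eq_mul, mul_one]
  rw [this, map_smul, smul_eq_mul, Int.cast_id]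

theorem phiB_map_int {B : Type*} [CommRing B] (X : Matrix J J ℤ) :
    phiB phi B (X.map (Int.cast : ℤ → B)) = (phi X : ℤ) := by
  have := phiB_map phi (Int.castRingHom B) X
  rw [phiB_int] at this
  exact this

theorem phiB_eq_zero {wt : J → M} {m : M}
    (h : ∀ m', m' ≠ m → ∀ X, IsWt wt m' X → phi X = 0) {B : Type*} [CommRing B] (X : Matrix J J B)
    (hX : ∀ j k, wt j = wt k + m → X j k = 0) : phiB phi B X = 0 := by
  rw [phiB_apply]
  refine Finset.sum_eq_zero fun j _ => Finset.sum_eq_zero fun k _ => ?_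
  by_cases hjk : wt j = wt k + m
  · rw [hX j k hjk, zero_mul]
  · rw [h (wt j - wt k) (fun h1 => hjk (by rw [← h1]; abel)) (Matrix.single j k 1), Int.cast_zero,
      mul_zero]
    intro j' k' h2
    by_cases h3 : j = j' ∧ k = k'
    · obtain ⟨rfl, rfl⟩ := h3; abel
    · exact absurd (Matrix.single_apply_of_ne _ _ _ _ _ h3) h2

end phi

variable {P : RootPairing idx ℤ M (Module.Dual ℤ M)} {b : P.Base} (R : RootMat P b)

namespace RootMat

/-- the root elements -/
noncomputable def U (a : idx) {B : Type*} [CommRing B] (x : B) : (Matrix R.J R.J B)ˣ :=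
  uU (R.E a) R.N R.N_pos (R.E_zero a) (R.E_mul a) (R.E_van a) x

@[simp] theorem coe_U (a : idx) {B : Type*} [CommRing B] (x : B) :
    (R.U a x : Matrix R.J R.J B) = uMat (R.E a) R.N x := rfl

@[simp] theorem coe_U_inv (a : idx) {B : Type*} [CommRing B] (x : B) :
    ((R.U a x)⁻¹ : (Matrix R.J R.J B)ˣ) = R.U a (-x) := by
  refine Units.ext ?_
  rfl

theorem U_zero (a : idx) {B : Type*} [CommRing B] : R.U a (0 : B) = 1 :=
  Units.ext (uMat_zero R.N_pos (R.E_zero a))

theorem U_add (a : idx) {B : Type*} [CommRing B] (x y : B) :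
    R.U a (x + y) = R.U a x * R.U a y :=
  Units.ext (uMat_add (R.E_mul a) (R.E_van a) x y).symm

/-- ordered products -/
noncomputable def pr (L : List idx) {B : Type*} [CommRing B] (x : idx → B) :
    (Matrix R.J R.J B)ˣ := (L.map fun a => R.U a (x a)).prod

theorem coe_pr (L : List idx) {B : Type*} [CommRing B] (x : idx → B) :
    (R.pr L x : Matrix R.J R.J B) = (L.map fun a => (R.U a (x a) : Matrix R.J R.J B)).prod := by
  rw [pr]
  change (Units.coeHom _) _ = _
  rw [map_list_prod, List.map_map]; rfl

/-- base change of invertible matrices -/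
noncomputable def mapU {A B : Type*} [CommRing A] [CommRing B] (f : A →+* B) :
    (Matrix R.J R.J A)ˣ →* (Matrix R.J R.J B)ˣ := Units.map f.mapMatrix.toMonoidHom

theorem coe_mapU {A B : Type*} [CommRing A] [CommRing B] (f : A →+* B)
    (v : (Matrix R.J R.J A)ˣ) : (R.mapU f v : Matrix R.J R.J B) =
      (v : Matrix R.J R.J A).map f := rfl

theorem mapU_U {A B : Type*} [CommRing A] [CommRing B] (f : A →+* B) (a : idx) (x : A) :
    R.mapU f (R.U a x) = R.U a (f x) := Units.ext (uMat_map f x)

theorem mapU_pr {A B : Type*} [CommRing A] [CommRing B] (f : A →+* B) (L : List idx)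
    (x : idx → A) : R.mapU f (R.pr L x) = R.pr L (fun a => f (x a)) := by
  rw [pr, map_list_prod, List.map_map, pr]
  congr 1
  refine List.map_congr_left fun a _ => ?_
  rw [Function.comp_apply, mapU_U]

theorem mapU_injective {A B : Type*} [CommRing A] [CommRing B] (f : A →+* B)
    (hf : Function.Injective f) : Function.Injective (R.mapU f) := by
  intro w w' h
  refine Units.ext ?_
  ext j k
  have := congrArg (fun X : (Matrix R.J R.J B)ˣ => (X : Matrix R.J R.J B) j k) h
  exact hf this

theorem pr_congr (L : List idx) {B : Type*} [CommRing B] {x y : idx → B}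
    (h : ∀ a ∈ L, x a = y a) : R.pr L x = R.pr L y := by
  rw [pr, pr]
  congr 1
  refine List.map_congr_left fun a ha => ?_
  rw [h a ha]

theorem pr_eq_one (L : List idx) {B : Type*} [CommRing B] {x : idx → B}
    (h : ∀ a ∈ L, x a = 0) : R.pr L x = 1 := by
  apply List.prod_eq_one
  intro y hy
  obtain ⟨a, ha, rfl⟩ := List.mem_map.mp hy
  rw [h a ha, R.U_zero]

/-- the root matrix over a ring -/
noncomputable def e (a : idx) (B : Type*) [CommRing B] : Matrix R.J R.J B :=
  (R.E a 1).map (Int.cast : ℤ → B)

/-- the degree function on the basis attached to a homomorphism on the weights -/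
def deg (l : M →+ ℤ) (j : R.J) : ℤ := l (R.wt j)

theorem E_deg (l : M →+ ℤ) (a : idx) (n : ℕ) (j k : R.J) (h : R.E a n j k ≠ 0) :
    R.deg l j - R.deg l k = n * l (P.root a) := by
  rw [deg, deg, R.E_wt a n j k h, map_add, map_nsmul, add_sub_cancel_left, nsmul_eq_mul]

theorem lev_e (l : M →+ ℤ) (a : idx) (B : Type*) [CommRing B] :
    Lev (R.deg l) (l (P.root a)) (R.e a B) := fun j k h => by
  have h1 : R.E a 1 j k ≠ 0 := fun h0 => h (by rw [e, Matrix.map_apply, h0, Int.cast_zero])
  rw [R.E_deg l a 1 j k h1]; simp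

theorem lev_U (l : M →+ ℤ) (a : idx) (ha : 0 < l (P.root a)) {B : Type*} [CommRing B] (x : B) :
    Lev (R.deg l) (l (P.root a) + 1) ((R.U a x : Matrix R.J R.J B) - 1 - x • R.e a B) :=
  lev_uMat ha R.N_pos (R.E_zero a) (R.E_van a) (R.E_deg l a) x

theorem lev_U_zero (l : M →+ ℤ) (a : idx) (ha : 0 ≤ l (P.root a)) {B : Type*} [CommRing B]
    (x : B) : Lev (R.deg l) 0 (R.U a x : Matrix R.J R.J B) :=
  lev_uMat_zero ha (R.E_deg l a) x

theorem lev_U_one (l : M →+ ℤ) (a : idx) (ha : 0 < l (P.root a)) {B : Type*} [CommRing B] (x : B) :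
    Lev (R.deg l) (l (P.root a)) ((R.U a x : Matrix R.J R.J B) - 1) := by
  have h1 : (R.U a x : Matrix R.J R.J B) - 1 =
      ((R.U a x : Matrix R.J R.J B) - 1 - x • R.e a B) + x • R.e a B := by abel
  rw [h1]
  exact ((R.lev_U l a ha x).mono (by omega)).add ((R.lev_e l a B).smul x)

/-- the Lie algebra -/
def lie (K : Type*) [CommRing K] : Submodule K (Matrix R.J R.J K) :=
  Submodule.span K (Set.range (fun a => R.e a K) ∪
    Set.range fun l : M →+ ℤ => Matrix.diagonal fun j => ((R.deg l j : ℤ) : K))

theorem e_mem_lie (a : idx) (K : Type*) [CommRing K] : R.e a K ∈ R.lie K :=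
  Submodule.subset_span (Or.inl ⟨a, rfl⟩)

theorem diag_mem_lie (l : M →+ ℤ) (K : Type*) [CommRing K] :
    Matrix.diagonal (fun j => ((R.deg l j : ℤ) : K)) ∈ R.lie K :=
  Submodule.subset_span (Or.inr ⟨l, rfl⟩)

theorem ad_mem (a : idx) {K : Type*} [CommRing K] {X : Matrix R.J R.J K} (hX : X ∈ R.lie K) :
    R.e a K * X - X * R.e a K ∈ R.lie K := by
  refine Submodule.span_induction (p := fun X _ => R.e a K * X - X * R.e a K ∈ R.lie K)
    ?_ ?_ ?_ ?_ hX
  · rintro _ (⟨c, rfl⟩ | ⟨l, rfl⟩)
    · have hmap : ∀ Y Z : Matrix R.J R.J ℤ, Y.map (Int.cast : ℤ → K) * Z.map (Int.cast : ℤ → K) -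
          Z.map (Int.cast : ℤ → K) * Y.map (Int.cast : ℤ → K) =
          (Int.castRingHom K).mapMatrix (Y * Z - Z * Y) := by
        intro Y Z
        rw [map_sub, map_mul, map_mul]; rfl
      by_cases h1 : P.root a + P.root c = 0
      · have h2 : c = P.reflectionPerm a a := by
          apply P.root.injective
          rw [P.root_reflectionPerm, P.reflection_apply_self]
          exact (neg_eq_of_add_eq_zero_right h1).symm
        subst h2
        change (R.E a 1).map (Int.cast : ℤ → K) * (R.E _ 1).map (Int.cast : ℤ → K) -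
          (R.E _ 1).map (Int.cast : ℤ → K) * (R.E a 1).map (Int.cast : ℤ → K) ∈ _
        rw [hmap, R.lie_opp a]
        have h3 := R.diag_mem_lie (P.coroot' a).toAddMonoidHom K
        convert h3 using 1
        ext j k
        simp [Matrix.diagonal_apply, deg]
      · by_cases h2 : P.root a + P.root c ∈ Set.range P.root
        · obtain ⟨d, hd⟩ := h2
          obtain ⟨r, hr⟩ := R.lie_root a c d hd
          change (R.E a 1).map (Int.cast : ℤ → K) * (R.E _ 1).map (Int.cast : ℤ → K) -
            (R.E _ 1).map (Int.cast : ℤ → K) * (R.E a 1).map (Int.cast : ℤ → K) ∈ _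
          rw [hmap, hr]
          have h3 : (Int.castRingHom K).mapMatrix (r • R.E d 1) = (r : K) • R.e d K := by
            ext j k
            simp only [RingHom.mapMatrix_apply, Matrix.map_apply, Matrix.smul_apply, smul_eq_mul,
              Int.coe_castRingHom, e]
            push_cast
            rfl
          rw [h3]
          exact Submodule.smul_mem _ _ (R.e_mem_lie d K)
        · change (R.E a 1).map (Int.cast : ℤ → K) * (R.E _ 1).map (Int.cast : ℤ → K) -
            (R.E _ 1).map (Int.cast : ℤ → K) * (R.E a 1).map (Int.cast : ℤ → K) ∈ _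
          rw [hmap, R.lie_nonroot a c h1 h2, sub_self, map_zero]
          exact Submodule.zero_mem _
    · have h1 : R.e a K * Matrix.diagonal (fun j => ((R.deg l j : ℤ) : K)) -
          Matrix.diagonal (fun j => ((R.deg l j : ℤ) : K)) * R.e a K =
          (-(l (P.root a) : ℤ) : K) • R.e a K := by
        ext j k
        rw [Matrix.sub_apply, Matrix.mul_diagonal, Matrix.diagonal_mul, Matrix.smul_apply,
          smul_eq_mul]
        by_cases h0 : R.E a 1 j k = 0
        · simp [e, h0]
        · have h2 := R.E_deg l a 1 j k h0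
          have h3 : ((R.deg l j : ℤ) : K) = (R.deg l k : ℤ) + (l (P.root a) : ℤ) := by
            rw [← Int.cast_add]; congr 1; simp at h2; omega
          rw [h3]; ring
      simp only [h1]
      exact Submodule.smul_mem _ _ (R.e_mem_lie a K)
  · simp
  · intro X Y _ _ hX hY
    have : R.e a K * (X + Y) - (X + Y) * R.e a K =
      (R.e a K * X - X * R.e a K) + (R.e a K * Y - Y * R.e a K) := by noncomm_ring
    rw [this]
    exact Submodule.add_mem _ hX hY
  · intro c X _ hX
    rw [mul_smul_comm, smul_mul_assoc, ← smul_sub]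
    exact Submodule.smul_mem _ _ hX

theorem U_mem_nrm (a : idx) {K : Type*} [Field K] [CharZero K] (x : K) :
    R.U a x ∈ Nrm (R.lie K) :=
  uU_mem_nrm R.N_pos (R.E_zero a) (R.E_mul a) (R.E_van a) (R.lie K)
    (fun _ hX => R.ad_mem a hX) x

theorem comp_mem (l : M →+ ℤ) {n : ℤ} (hn : 0 < n) {K : Type*} [CommRing K]
    {X : Matrix R.J R.J K} (hX : X ∈ R.lie K) :
    comp (R.deg l) n X ∈ Submodule.span K ((fun a => R.e a K) '' {a | l (P.root a) = n}) := by
  refine Submodule.span_induction (p := fun X _ => comp (R.deg l) n X ∈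
    Submodule.span K ((fun a => R.e a K) '' {a | l (P.root a) = n})) ?_ ?_ ?_ ?_ hX
  · rintro _ (⟨c, rfl⟩ | ⟨l', rfl⟩)
    · by_cases hc : l (P.root c) = n
      · have h1 : comp (R.deg l) n (R.e c K) = R.e c K := by
          ext j k
          rw [Levels.comp_apply]
          split_ifs with h2
          · rfl
          · symm
            by_contra h3
            apply h2
            have h4 : R.E c 1 j k ≠ 0 := fun h0 => h3 (by
              rw [e, Matrix.map_apply, h0, Int.cast_zero])
            rw [R.E_deg l c 1 j k h4, hc]; simp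
        exact h1 ▸ Submodule.subset_span ⟨c, hc, rfl⟩
      · have h1 : comp (R.deg l) n (R.e c K) = 0 := by
          ext j k
          rw [Levels.comp_apply, Matrix.zero_apply]
          split_ifs with h2
          · by_contra h3
            have h4 : R.E c 1 j k ≠ 0 := fun h0 => h3 (by
              rw [e, Matrix.map_apply, h0, Int.cast_zero])
            rw [R.E_deg l c 1 j k h4] at h2
            exact hc (by simpa using h2)
          · rfl
        change comp (R.deg l) n (R.e c K) ∈ _
        rw [h1]
        exact Submodule.zero_mem _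
    · have h1 : comp (R.deg l) n (Matrix.diagonal fun j => ((R.deg l' j : ℤ) : K)) = 0 := by
        ext j k
        rw [Levels.comp_apply]
        split_ifs with h2
        · rw [Matrix.diagonal_apply_ne]
          · rfl
          · rintro rfl; omega
        · rfl
      change comp (R.deg l) n (Matrix.diagonal fun j => ((R.deg l' j : ℤ) : K)) ∈ _
      rw [h1]
      exact Submodule.zero_mem _
  · simp
  · intro X Y _ _ hX hY
    rw [map_add]
    exact Submodule.add_mem _ hX hY
  · intro c X _ hX
    rw [map_smul]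
    exact Submodule.smul_mem _ _ hX

/-- `S1`: unipotent elements normalising the Lie algebra are ordered products. -/
theorem exists_prod_of_nrm (l : M →+ ℤ) (L : List idx) (hnd : L.Nodup)
    (hmem : ∀ a, a ∈ L ↔ 0 < l (P.root a))
    (hL : L.Pairwise fun a c => l (P.root a) ≤ l (P.root c)) {K : Type*} [Field K] [CharZero K]
    (v : (Matrix R.J R.J K)ˣ) (hv : Lev (R.deg l) 1 ((v : Matrix R.J R.J K) - 1))
    (hn : v ∈ Nrm (R.lie K)) :
    ∃ x : idx → K, v = (L.map fun a => R.U a (x a)).prod := by
  refine Levels.exists_prod (R.deg l) (R.lie K) (fun a => l (P.root a)) L hL hnd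
    (fun a => R.e a K) (fun a _ => R.lev_e l a K) (R.diag_mem_lie l K) ?_ (fun a x => R.U a x)
    (fun a => R.U_zero a) (fun a ha x => R.lev_U l a ((hmem a).mp ha) x)
    (fun a _ x => R.U_mem_nrm a x) v hv hn
  intro n hn0 X hX
  refine Submodule.span_mono ?_ (R.comp_mem l hn0 hX)
  rintro _ ⟨a, ha, rfl⟩
  refine ⟨a, ⟨(hmem a).mpr ?_, ha⟩, rfl⟩
  rw [show l (P.root a) = n from ha]
  exact hn0

theorem lev_list_prod (l : M →+ ℤ) (L : List idx) (hmem : ∀ a ∈ L, 0 < l (P.root a))
    {B : Type*} [CommRing B] (x : idx → B) :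
    Lev (R.deg l) 1 ((R.pr L x : Matrix R.J R.J B) - 1) := by
  induction L with
  | nil => simpa [pr] using Lev.zero
  | cons a L ih =>
    rw [pr, List.map_cons, List.prod_cons, Units.val_mul]
    exact Lev.mul_sub_one zero_le_one
      ((R.lev_U_one l a (hmem a List.mem_cons_self) (x a)).mono
        (hmem a List.mem_cons_self))
      (ih fun c hc => hmem c (List.mem_cons_of_mem a hc))

/-- Existence of sorted lists. -/
theorem exists_sorted [Finite idx] (l : M →+ ℤ) : ∃ L : List idx, L.Nodup ∧
    (∀ a, a ∈ L ↔ 0 < l (P.root a)) ∧ L.Pairwise fun a c => l (P.root a) ≤ l (P.root c) := by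
  classical
  have := Fintype.ofFinite idx
  set r : idx → idx → Prop := fun a c => l (P.root a) ≤ l (P.root c) with hr
  have : Std.Total r := ⟨fun a c => le_total _ _⟩
  have : IsTrans idx r := ⟨fun a c d h1 h2 => le_trans h1 h2⟩
  refine ⟨((Finset.univ.filter fun a => 0 < l (P.root a)).toList).insertionSort r, ?_, ?_, ?_⟩
  · exact (List.perm_insertionSort r _).nodup_iff.mpr (Finset.nodup_toList _)
  · intro a
    rw [List.mem_insertionSort]
    simp
  · exact List.pairwise_insertionSort r _

/-- Change of grading. -/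
theorem exists_prod_of_nrm' [Finite idx] (l l' : M →+ ℤ) (L : List idx) (hnd : L.Nodup)
    (hmem : ∀ a, a ∈ L ↔ 0 < l (P.root a))
    (hL : L.Pairwise fun a c => l (P.root a) ≤ l (P.root c))
    (hl' : ∀ a, 0 < l' (P.root a) ↔ 0 < l (P.root a))
    {K : Type*} [Field K] [CharZero K]
    (v : (Matrix R.J R.J K)ˣ) (hv : Lev (R.deg l') 1 ((v : Matrix R.J R.J K) - 1))
    (hn : v ∈ Nrm (R.lie K)) :
    ∃ x : idx → K, v = (L.map fun a => R.U a (x a)).prod := by
  obtain ⟨L', hnd', hmem', hL'⟩ := exists_sorted (P := P) l'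
  obtain ⟨y, hy⟩ := R.exists_prod_of_nrm l' L' hnd' hmem' hL' v hv hn
  refine R.exists_prod_of_nrm l L hnd hmem hL v ?_ hn
  rw [hy]
  exact R.lev_list_prod l L' (fun a ha => (hl' a).mp ((hmem' a).mp ha)) y

theorem phi_e_self (a : idx) (B : Type*) [CommRing B] : phiB (R.phi a) B (R.e a B) = 1 := by
  rw [e, phiB_map_int, R.phi_E, Int.cast_one]

theorem phi_e_ne {a c : idx} (h : a ≠ c) (B : Type*) [CommRing B] :
    phiB (R.phi c) B (R.e a B) = 0 := by
  rw [e, phiB_map_int, R.phi_wt c (P.root a) (fun h1 => h (P.root.injective h1)) _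
    (by simpa using R.E_wt a 1), Int.cast_zero]

theorem phi_lev (l : M →+ ℤ) (c : idx) {n : ℤ} (hc : l (P.root c) < n) {B : Type*} [CommRing B]
    {X : Matrix R.J R.J B} (hX : Lev (R.deg l) n X) : phiB (R.phi c) B X = 0 := by
  refine phiB_eq_zero (R.phi c) (R.phi_wt c) X fun j k hjk => ?_
  by_contra h0
  have h1 := hX j k h0
  rw [deg, deg, hjk, map_add] at h1
  omega

theorem phi_one (l : M →+ ℤ) (c : idx) (hc : l (P.root c) ≠ 0) (B : Type*) [CommRing B] :
    phiB (R.phi c) B 1 = 0 := by
  refine phiB_eq_zero (R.phi c) (R.phi_wt c) 1 fun j k hjk => ?_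
  refine Matrix.one_apply_ne ?_
  rintro rfl
  apply hc
  have : P.root c = 0 := by simpa using hjk
  rw [this, map_zero]

/-- The recursion for the coordinates. -/
theorem phi_prod (l : M →+ ℤ) (L : List idx) (hnd : L.Nodup)
    (hmem : ∀ a, a ∈ L ↔ 0 < l (P.root a))
    (hL : L.Pairwise fun a c => l (P.root a) ≤ l (P.root c)) {B : Type*} [CommRing B]
    (z : idx → B) (c : idx) (hc : c ∈ L) :
    phiB (R.phi c) B (R.pr L z : Matrix R.J R.J B) =
      phiB (R.phi c) B (R.pr L (fun a => if l (P.root a) < l (P.root c) then z a else 0) :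
        Matrix R.J R.J B) + z c := by
  classical
  set n := l (P.root c) with hn
  have hn0 : 0 < n := (hmem c).mp hc
  set z' : idx → B := fun a => if l (P.root a) < n then z a else 0 with hz'
  set z'' : idx → B := fun a => if l (P.root a) < n then 0 else z a with hz''
  have hsplit : R.pr L z' * R.pr L z'' = R.pr L z := by
    rw [pr, pr, prod_mul_prod_of_sorted (fun a => l (P.root a)) (n - 1) L hL]
    · rw [pr]
      congr 1
      refine List.map_congr_left fun a _ => ?_
      by_cases ha : l (P.root a) < n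
      · rw [if_pos (by omega)]; simp only [hz', if_pos ha]
      · rw [if_neg (by omega)]; simp only [hz'', if_neg ha]
    · intro a ha
      simp only [hz']
      rw [if_neg (by omega), R.U_zero]
    · intro a ha
      simp only [hz'']
      rw [if_pos (by omega), R.U_zero]
  set S := (L.map fun a => z'' a • R.e a B).sum with hS
  have hlev : Lev (R.deg l) (n + 1) ((R.pr L z'' : Matrix R.J R.J B) - 1 - S) := by
    rw [coe_pr]
    refine lev_prod hn0 L _ _ (fun a ha => ?_) (fun a ha => ?_)
    · by_cases h : l (P.root a) < n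
      · simp only [hz'', if_pos h, zero_smul]; exact Lev.zero
      · exact ((R.lev_e l a B).mono (not_lt.mp h)).smul _
    · by_cases h : l (P.root a) < n
      · simp only [hz'', if_pos h, zero_smul, R.U_zero]; simpa using Lev.zero
      · exact (R.lev_U l a ((hmem a).mp ha) _).mono (by omega)
  have hlevS : Lev (R.deg l) n S := by
    suffices h : ∀ L' : List idx, Lev (R.deg l) n (L'.map fun a => z'' a • R.e a B).sum from h L
    intro L'
    induction L' with
    | nil => simpa using Lev.zero
    | cons a L' ih =>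
      rw [List.map_cons, List.sum_cons]
      refine Lev.add ?_ ih
      by_cases h : l (P.root a) < n
      · simp only [hz'', if_pos h, zero_smul]; exact Lev.zero
      · exact ((R.lev_e l a B).mono (not_lt.mp h)).smul _
  have hlev1 := R.lev_list_prod l L (fun a ha => (hmem a).mp ha) z'
  set A : Matrix R.J R.J B := (R.pr L z' : Matrix R.J R.J B) with hA
  set A'' : Matrix R.J R.J B := (R.pr L z'' : Matrix R.J R.J B) with hA''
  have h1 : (R.pr L z : Matrix R.J R.J B) =
      A + S + (A * (A'' - 1 - S) + (A - 1) * S) := by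
    rw [← hsplit, Units.val_mul, ← hA, ← hA'']
    noncomm_ring
  have h2 : Lev (R.deg l) (n + 1) (A * (A'' - 1 - S) + (A - 1) * S) :=
    ((hlev1.one_of_sub_one zero_le_one).mul_left hlev).add ((hlev1.mul hlevS).mono (by omega))
  rw [h1, map_add, map_add, R.phi_lev l c (by omega) h2, add_zero]
  congr 1
  -- the leading sum
  have h3 : phiB (R.phi c) B S = (L.map fun a => if a = c then z a else 0).sum := by
    rw [hS, map_list_sum, List.map_map]
    congr 1
    refine List.map_congr_left fun a _ => ?_
    simp only [Function.comp_apply, map_smul, smul_eq_mul]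
    by_cases hac : a = c
    · subst hac
      rw [if_pos rfl, R.phi_e_self, mul_one]
      simp only [hz'']
      rw [if_neg (by omega)]
    · rw [R.phi_e_ne hac, mul_zero, if_neg hac]
  rw [h3, List.sum_map_ite_eq, List.count_eq_one_of_mem hnd hc]
  simp

/-- The coordinate of a simple root. -/
theorem phi_prod_min (l : M →+ ℤ) (L : List idx) (hnd : L.Nodup)
    (hmem : ∀ a, a ∈ L ↔ 0 < l (P.root a))
    (hL : L.Pairwise fun a c => l (P.root a) ≤ l (P.root c)) {B : Type*} [CommRing B]
    (z : idx → B) (c : idx) (hc : c ∈ L) (hmin : ∀ a ∈ L, l (P.root c) ≤ l (P.root a)) :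
    phiB (R.phi c) B (R.pr L z : Matrix R.J R.J B) = z c := by
  rw [R.phi_prod l L hnd hmem hL z c hc,
    R.pr_eq_one L (fun a ha => if_neg (not_lt.mpr (hmin a ha))), Units.val_one,
    R.phi_one l c ((hmem c).mp hc).ne', zero_add]

/-- Integrality of the coordinates. -/
theorem exists_coords [Finite idx] (l l' : M →+ ℤ) (L : List idx) (hnd : L.Nodup)
    (hmem : ∀ a, a ∈ L ↔ 0 < l (P.root a))
    (hL : L.Pairwise fun a c => l (P.root a) ≤ l (P.root c))
    (hl' : ∀ a, 0 < l' (P.root a) ↔ 0 < l (P.root a))
    {A : Type*} [CommRing A] [IsDomain A] [CharZero A] (v : (Matrix R.J R.J A)ˣ)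
    (hv : Lev (R.deg l') 1 ((v : Matrix R.J R.J A) - 1))
    (hn : R.mapU (algebraMap A (FractionRing A)) v ∈ Nrm (R.lie (FractionRing A))) :
    ∃ z : idx → A, v = R.pr L z := by
  classical
  set K := FractionRing A
  set f := algebraMap A K with hf
  have hfinj : Function.Injective f := IsFractionRing.injective A K
  have : CharZero K := charZero_of_injective_algebraMap hfinj
  have hlevK : Lev (R.deg l') 1 ((R.mapU f v : Matrix R.J R.J K) - 1) := by
    have h1 : (R.mapU f v : Matrix R.J R.J K) - 1 = ((v : Matrix R.J R.J A) - 1).map f := by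
      rw [coe_mapU]
      have : ((v : Matrix R.J R.J A) - 1).map f = f.mapMatrix ((v : Matrix R.J R.J A) - 1) := rfl
      rw [this, map_sub, map_one]; rfl
    rw [h1]
    exact hv.map f
  obtain ⟨y, hy⟩ := R.exists_prod_of_nrm' l l' L hnd hmem hL hl' (R.mapU f v) hlevK hn
  change R.mapU f v = R.pr L y at hy
  -- integrality
  have hint : ∀ n : ℕ, ∀ c ∈ L, l (P.root c) ≤ n → ∃ t : A, f t = y c := by
    intro n
    induction n with
    | zero =>
      intro c hc h
      have := (hmem c).mp hc
      push_cast at h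
      omega
    | succ n ih =>
      intro c hc hcn
      choose! t ht using ih
      set z' : idx → A := fun a => if l (P.root a) < l (P.root c) then t a else 0 with hz'
      have h1 : R.mapU f (R.pr L z') =
          R.pr L (fun a => if l (P.root a) < l (P.root c) then y a else 0) := by
        rw [mapU_pr]
        refine R.pr_congr L fun a ha => ?_
        simp only [hz']
        by_cases h : l (P.root a) < l (P.root c)
        · rw [if_pos h, if_pos h, ht a ha (by push_cast at hcn; omega)]
        · rw [if_neg h, if_neg h, map_zero]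
      have h2 := R.phi_prod l L hnd hmem hL y c hc
      rw [← h1, ← hy, coe_mapU, coe_mapU, phiB_map, phiB_map] at h2
      exact ⟨phiB (R.phi c) A (v : Matrix R.J R.J A) -
        phiB (R.phi c) A (R.pr L z' : Matrix R.J R.J A), by rw [map_sub, h2]; ring⟩
  have hint' : ∀ c ∈ L, ∃ t : A, f t = y c := fun c hc =>
    hint (l (P.root c)).toNat c hc (Int.self_le_toNat _)
  choose! t ht using hint'
  refine ⟨t, R.mapU_injective f hfinj ?_⟩
  rw [hy, mapU_pr]
  exact R.pr_congr L fun a ha => (ht a ha).symm

end RootMat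

end Groth.Agent.RedSub.H630.Coords
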