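import Mathlib.Data.Matrix.Mul
import Mathlib.Data.Matrix.Basis
import Mathlib.LinearAlgebra.Matrix.ToLin
import Mathlib.Algebra.BigOperators.Group.List.Basic
import Mathlib.Tactic

/-!
# Levels of matrices with respect to a grading, and the normaliser trick

`Lev d n X` : the matrix `X` only has entries `(j, k)` with `n ≤ d j - d k`.

`exists_prod` : let `𝔤` be a space of matrices which contains the grading element and whose components of
positive degree are spanned by elements `e a`; then every invertible matrix `u` of the form `1 + (level ≥ 1)`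
which normalises `𝔤` is a product `∏ U_a(x_a)` along the list of all `a`, sorted by degree.
-/

set_option autoImplicit false

open Matrix

namespace Groth.Agent.RedSub.H630.Levels

variable {J : Type*} {B : Type*}

/-- `X` only has entries `(j, k)` with `n ≤ d j - d k`. -/
def Lev [Zero B] (d : J → ℤ) (n : ℤ) (X : Matrix J J B) : Prop :=
  ∀ j k, X j k ≠ 0 → n ≤ d j - d k

section basic

variable [CommRing B] {d : J → ℤ} {m n : ℤ} {X Y : Matrix J J B}

theorem Lev.mono (h : Lev d n X) (hmn : m ≤ n) : Lev d m X := fun j k hjk => hmn.trans (h j k hjk)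

theorem Lev.zero : Lev d n (0 : Matrix J J B) := fun _ _ h => absurd rfl h

theorem Lev.add (hX : Lev d n X) (hY : Lev d n Y) : Lev d n (X + Y) := fun j k h => by
  by_cases h1 : X j k = 0
  · refine hY j k fun h2 => h ?_
    rw [Matrix.add_apply, h1, h2, add_zero]
  · exact hX j k h1

theorem Lev.smul (c : B) (hX : Lev d n X) : Lev d n (c • X) := fun j k h =>
  hX j k fun h1 => h (by rw [Matrix.smul_apply, h1, smul_zero])

theorem Lev.neg (hX : Lev d n X) : Lev d n (-X) := fun j k h =>
  hX j k fun h1 => h (by rw [Matrix.neg_apply, h1, neg_zero])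

theorem Lev.sub (hX : Lev d n X) (hY : Lev d n Y) : Lev d n (X - Y) := by
  rw [sub_eq_add_neg]; exact hX.add hY.neg

theorem Lev.sum {ι : Type*} (s : Finset ι) (f : ι → Matrix J J B) (h : ∀ i ∈ s, Lev d n (f i)) :
    Lev d n (∑ i ∈ s, f i) := by
  classical
  induction s using Finset.induction_on with
  | empty => simpa using Lev.zero
  | insert a s ha ih =>
    rw [Finset.sum_insert ha]
    exact (h a (Finset.mem_insert_self a s)).add (ih fun i hi => h i (Finset.mem_insert_of_mem hi))

theorem Lev.one [DecidableEq J] (hn : n ≤ 0) : Lev d n (1 : Matrix J J B) := fun j k h => by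
  by_cases hjk : j = k
  · subst hjk; simpa using hn
  · exact absurd (Matrix.one_apply_ne hjk) h

theorem Lev.diagonal [DecidableEq J] (c : J → B) (hn : n ≤ 0) : Lev d n (Matrix.diagonal c) :=
  fun j k h => by
  by_cases hjk : j = k
  · subst hjk; simpa using hn
  · exact absurd (Matrix.diagonal_apply_ne _ hjk) h

theorem Lev.map {C : Type*} [CommRing C] (f : B →+* C) (h : Lev d n X) : Lev d n (X.map f) :=
  fun j k hjk => h j k fun h0 => hjk (by rw [Matrix.map_apply, h0, map_zero])

theorem Lev.of_map {C : Type*} [CommRing C] (f : B →+* C) (hf : Function.Injective f)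
    (h : Lev d n (X.map f)) : Lev d n X :=
  fun j k hjk => h j k fun h0 => hjk (hf (by rw [map_zero]; exact h0))

section
variable [Fintype J]

theorem Lev.mul (hX : Lev d m X) (hY : Lev d n Y) : Lev d (m + n) (X * Y) := fun j k h => by
  rw [Matrix.mul_apply] at h
  obtain ⟨l, -, hl⟩ := Finset.exists_ne_zero_of_sum_ne_zero h
  have h1 := hX j l (left_ne_zero_of_mul hl)
  have h2 := hY l k (right_ne_zero_of_mul hl)
  omega

theorem Lev.mul_left (hX : Lev d 0 X) (hY : Lev d n Y) : Lev d n (X * Y) := by
  simpa using hX.mul hY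

theorem Lev.mul_right (hX : Lev d n X) (hY : Lev d 0 Y) : Lev d n (X * Y) := by
  simpa using hX.mul hY

/-- a bound for the levels -/
theorem exists_bound (d : J → ℤ) : ∃ N : ℕ, ∀ j k, d j - d k ≤ N ∧ -(N : ℤ) ≤ d j - d k := by
  classical
  refine ⟨∑ j, ∑ k, (d j - d k).natAbs, fun j k => ?_⟩
  have h1 : (d j - d k).natAbs ≤ ∑ j, ∑ k, (d j - d k).natAbs :=
    (Finset.single_le_sum (f := fun k => (d j - d k).natAbs) (fun _ _ => Nat.zero_le _)
      (Finset.mem_univ k)).trans
      (Finset.single_le_sum (f := fun j => ∑ k, (d j - d k).natAbs) (fun _ _ => Nat.zero_le _)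
      (Finset.mem_univ j))
  constructor <;> omega

end

theorem Lev.eq_zero {N : ℕ} (hN : ∀ j k, d j - d k ≤ N ∧ -(N : ℤ) ≤ d j - d k)
    (h : Lev d n X) (hn : (N : ℤ) < n) : X = 0 := by
  ext j k
  by_contra h0
  have h1 := h j k h0
  have h2 := (hN j k).1
  omega

variable [DecidableEq J]

theorem Lev.one_of_sub_one {u : Matrix J J B} (hu : Lev d n (u - 1)) (hn : 0 ≤ n) : Lev d 0 u := by
  have : u = (u - 1) + 1 := by abel
  rw [this]
  exact (hu.mono hn).add (Lev.one le_rfl)

variable [Fintype J]

/-- the inverse of a matrix of the form `1 + (level ≥ 1)` has level `≥ 0` -/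
theorem Lev.inv {u v : Matrix J J B} (huv : u * v = 1) (hu : Lev d 1 (u - 1)) : Lev d 0 v := by
  obtain ⟨N, hN⟩ := exists_bound d
  have key : ∀ k : ℕ, Lev d (-(k : ℤ)) v → Lev d 0 v := by
    intro k
    induction k with
    | zero => intro h; simpa using h
    | succ k ih =>
      intro h
      apply ih
      have h1 : v = 1 - (u - 1) * v := by rw [sub_mul, huv, one_mul]; abel
      rw [h1]
      refine (Lev.one (by omega)).sub ?_
      refine (hu.mul h).mono ?_
      push_cast; omega
  exact key N fun j k _ => (hN j k).2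

theorem Lev.inv_sub_one {u v : Matrix J J B} (huv : u * v = 1) (hn : 1 ≤ n)
    (hu : Lev d n (u - 1)) : Lev d n (v - 1) := by
  have h1 : v - 1 = -((u - 1) * v) := by rw [sub_mul, huv, one_mul]; abel
  rw [h1]
  exact (hu.mul_right (Lev.inv huv (hu.mono hn))).neg

theorem Lev.mul_sub_one {u v : Matrix J J B} (hn : 0 ≤ n) (hu : Lev d n (u - 1))
    (hv : Lev d n (v - 1)) : Lev d n (u * v - 1) := by
  have h1 : u * v - 1 = (u - 1) * v + (v - 1) := by rw [sub_mul, one_mul]; abel
  rw [h1]
  exact (hu.mul_right (hv.one_of_sub_one hn)).add hv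

end basic

section comp

variable [CommRing B]

/-- the component of degree `n` -/
def comp (d : J → ℤ) (n : ℤ) : Matrix J J B →ₗ[B] Matrix J J B where
  toFun X := Matrix.of fun j k => if d j - d k = n then X j k else 0
  map_add' X Y := by
    ext j k
    simp only [Matrix.of_apply, Matrix.add_apply]
    split_ifs <;> simp
  map_smul' c X := by
    ext j k
    simp only [Matrix.of_apply, Matrix.smul_apply, RingHom.id_apply]
    split_ifs <;> simp

theorem comp_apply (d : J → ℤ) (n : ℤ) (X : Matrix J J B) (j k : J) :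
    comp d n X j k = if d j - d k = n then X j k else 0 := rfl

theorem comp_of_lev {d : J → ℤ} {m n : ℤ} {X : Matrix J J B} (h : Lev d m X) (hn : n < m) :
    comp d n X = 0 := by
  ext j k
  rw [comp_apply]
  split_ifs with h1
  · by_contra h0
    have := h j k h0
    omega
  · rfl

theorem lev_sub_comp {d : J → ℤ} {n : ℤ} {X : Matrix J J B} (h : Lev d n X) :
    Lev d (n + 1) (X - comp d n X) := fun j k hjk => by
  rw [Matrix.sub_apply, comp_apply] at hjk
  split_ifs at hjk with h1
  · exact absurd (sub_self _) hjk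
  · rw [sub_zero] at hjk
    have := h j k hjk
    omega

theorem lev_comp (d : J → ℤ) (n : ℤ) (X : Matrix J J B) : Lev d n (comp d n X) := fun j k hjk => by
  rw [comp_apply] at hjk
  split_ifs at hjk with h1
  · omega
  · exact absurd rfl hjk

end comp

section list

/-- Splitting a product along a sorted list. -/
theorem prod_mul_prod_of_sorted {I G : Type*} [Monoid G] (deg : I → ℤ) (n : ℤ) (L : List I)
    (hL : L.Pairwise fun a c => deg a ≤ deg c) (f g : I → G) (hf : ∀ a, n < deg a → f a = 1)
    (hg : ∀ a, deg a ≤ n → g a = 1) :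
    (L.map f).prod * (L.map g).prod = (L.map fun a => if deg a ≤ n then f a else g a).prod := by
  induction L with
  | nil => simp
  | cons a L ih =>
    rw [List.pairwise_cons] at hL
    simp only [List.map_cons, List.prod_cons]
    by_cases ha : deg a ≤ n
    · rw [if_pos ha, hg a ha, one_mul, mul_assoc, ih hL.2]
    · rw [not_le] at ha
      rw [if_neg (not_le.mpr ha), hf a ha, one_mul, ← ih hL.2]
      have h1 : (L.map f).prod = 1 := by
        apply List.prod_eq_one
        intro x hx
        obtain ⟨c, hc, rfl⟩ := List.mem_map.mp hx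
        exact hf c (ha.trans_le (hL.1 c hc))
      rw [h1, one_mul, one_mul]

variable [CommRing B] [Fintype J] [DecidableEq J]

/-- The leading term of a product. -/
theorem lev_prod {I : Type*} {d : J → ℤ} {n : ℤ} (hn : 0 < n) (L : List I)
    (U e : I → Matrix J J B) (he : ∀ a ∈ L, Lev d n (e a))
    (hU : ∀ a ∈ L, Lev d (n + 1) (U a - 1 - e a)) :
    Lev d (n + 1) ((L.map U).prod - 1 - (L.map e).sum) := by
  suffices h : Lev d n (L.map e).sum ∧ Lev d (n + 1) ((L.map U).prod - 1 - (L.map e).sum) from h.2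
  induction L with
  | nil => simpa using ⟨Lev.zero, Lev.zero⟩
  | cons a L ih =>
    obtain ⟨h1, h2⟩ := ih (fun c hc => he c (List.mem_cons_of_mem a hc))
      (fun c hc => hU c (List.mem_cons_of_mem a hc))
    have h3 := he a List.mem_cons_self
    have h4 := hU a List.mem_cons_self
    simp only [List.map_cons, List.prod_cons, List.sum_cons]
    refine ⟨h3.add h1, ?_⟩
    set S := (L.map e).sum
    set Q := (L.map U).prod
    have h5 : U a * Q - 1 - (e a + S) =
        (U a - 1 - e a) * Q + (Q - 1 - S) + e a * ((Q - 1 - S) + S) := by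
      noncomm_ring
    rw [h5]
    have hQ1 : Lev d n ((Q - 1 - S) + S) := (h2.mono (by omega)).add h1
    have hQ : Lev d 0 Q := by
      have : Q = ((Q - 1 - S) + S) + 1 := by abel
      rw [this]
      exact (hQ1.mono hn.le).add (Lev.one le_rfl)
    exact ((h4.mul_right hQ).add h2).add ((h3.mul hQ1).mono (by omega))

end list

section nrm

variable {K : Type*} [CommRing K] [Fintype J] [DecidableEq J]

/-- The normaliser of a space of matrices. -/
def Nrm (g : Submodule K (Matrix J J K)) : Subgroup (Matrix J J K)ˣ where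
  carrier := {u | ∀ X, X ∈ g ↔ (u : Matrix J J K) * X * ((u⁻¹ : (Matrix J J K)ˣ) : Matrix J J K) ∈ g}
  mul_mem' {u v} hu hv X := by
    rw [hv X, hu _]
    simp only [_root_.mul_inv_rev, Units.val_mul, mul_assoc]
  one_mem' X := by simp
  inv_mem' {u} hu X := by
    have h : (u : Matrix J J K) * (((u⁻¹ : (Matrix J J K)ˣ) : Matrix J J K) * X *
        (((u⁻¹)⁻¹ : (Matrix J J K)ˣ) : Matrix J J K)) * ((u⁻¹ : (Matrix J J K)ˣ) : Matrix J J K) = X := by
      rw [inv_inv]
      simp only [mul_assoc, Units.mul_inv, mul_one]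
      rw [← mul_assoc, Units.mul_inv, one_mul]
    have h2 := hu (((u⁻¹ : (Matrix J J K)ˣ) : Matrix J J K) * X *
        (((u⁻¹)⁻¹ : (Matrix J J K)ˣ) : Matrix J J K))
    rw [h] at h2
    exact h2.symm

theorem mem_nrm {g : Submodule K (Matrix J J K)} {u : (Matrix J J K)ˣ} :
    u ∈ Nrm g ↔ ∀ X, X ∈ g ↔
      (u : Matrix J J K) * X * ((u⁻¹ : (Matrix J J K)ˣ) : Matrix J J K) ∈ g := Iff.rfl

theorem mem_nrm_of {g : Submodule K (Matrix J J K)} {u : (Matrix J J K)ˣ}
    (h1 : ∀ X ∈ g, (u : Matrix J J K) * X * ((u⁻¹ : (Matrix J J K)ˣ) : Matrix J J K) ∈ g)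
    (h2 : ∀ X ∈ g, ((u⁻¹ : (Matrix J J K)ˣ) : Matrix J J K) * X * (u : Matrix J J K) ∈ g) :
    u ∈ Nrm g := by
  rw [mem_nrm]
  refine fun X => ⟨h1 X, fun h => ?_⟩
  have := h2 _ h
  simpa [mul_assoc] using this

end nrm

section main

variable {K : Type*} [Field K] [CharZero K] [Fintype J] [DecidableEq J]

theorem exists_prod_aux {I : Type*} (d : J → ℤ) (g : Submodule K (Matrix J J K)) (deg : I → ℤ)
    (L : List I) (hL : L.Pairwise fun a c => deg a ≤ deg c) (hnd : L.Nodup)
    (e : I → Matrix J J K) (he : ∀ a ∈ L, Lev d (deg a) (e a))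
    (hd : Matrix.diagonal (fun j => (d j : K)) ∈ g)
    (hg : ∀ n, 0 < n → ∀ X ∈ g, comp d n X ∈ Submodule.span K (e '' {a | a ∈ L ∧ deg a = n}))
    (U : I → K → (Matrix J J K)ˣ) (hU0 : ∀ a, U a 0 = 1)
    (hU : ∀ a ∈ L, ∀ x, Lev d (deg a + 1) ((U a x : Matrix J J K) - 1 - x • e a))
    (hUn : ∀ a ∈ L, ∀ x, U a x ∈ Nrm g) {N : ℕ}
    (hN : ∀ j k, d j - d k ≤ N ∧ -(N : ℤ) ≤ d j - d k) (k : ℕ) :
    ∀ n : ℤ, 0 < n → (N : ℤ) < n + k → ∀ u : (Matrix J J K)ˣ, Lev d n ((u : Matrix J J K) - 1) →
      u ∈ Nrm g → ∃ x : I → K, (∀ a, deg a < n → x a = 0) ∧ u = (L.map fun a => U a (x a)).prod := by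
  classical
  induction k with
  | zero =>
    intro n hn hnN u hu hun
    refine ⟨fun _ => 0, fun _ _ => rfl, ?_⟩
    have h1 : (u : Matrix J J K) - 1 = 0 := hu.eq_zero hN (by simpa using hnN)
    have h2 : u = 1 := Units.ext (by rw [sub_eq_zero] at h1; simpa using h1)
    rw [h2, eq_comm]
    apply List.prod_eq_one
    intro x hx
    obtain ⟨c, hc, rfl⟩ := List.mem_map.mp hx
    exact hU0 c
  | succ k ih =>
    intro n hn hnN u hu hun
    set C := comp d n ((u : Matrix J J K) - 1) with hC
    -- the leading component is in the span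
    have hCmem : C ∈ Submodule.span K (e '' {a | a ∈ L ∧ deg a = n}) := by
      set h : Matrix J J K := Matrix.diagonal fun j => (d j : K) with hh
      set w : Matrix J J K := (u : Matrix J J K) - 1 with hw
      set v : Matrix J J K := ((u⁻¹ : (Matrix J J K)ˣ) : Matrix J J K) with hv
      have huv : (u : Matrix J J K) * v = 1 := by rw [hv]; simp
      have h0 : (u : Matrix J J K) * h * v - h ∈ g := g.sub_mem ((mem_nrm.mp hun h).mp hd) hd
      have hv1 : Lev d n (v - 1) := Lev.inv_sub_one huv hn hu
      have h1 : (u : Matrix J J K) * h * v - h = (w * h - h * w) + (w * h - h * w) * (v - 1) := by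
        have : h = h * ((u : Matrix J J K) * v) := by rw [huv, mul_one]
        calc (u : Matrix J J K) * h * v - h = (u : Matrix J J K) * h * v -
              h * ((u : Matrix J J K) * v) := by rw [← this]
          _ = (w * h - h * w) + (w * h - h * w) * (v - 1) := by rw [hw]; noncomm_ring
      have hlev : Lev d n (w * h - h * w) :=
        (hu.mul_right (Lev.diagonal _ le_rfl)).sub ((Lev.diagonal _ le_rfl).mul_left hu)
      have h2 : comp d n ((u : Matrix J J K) * h * v - h) = (-(n : K)) • C := by
        rw [h1, map_add, comp_of_lev (hlev.mul hv1) (by omega), add_zero]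
        ext j k
        rw [comp_apply, Matrix.smul_apply, hC, comp_apply]
        split_ifs with hjk
        · rw [Matrix.sub_apply, hh, Matrix.mul_diagonal, Matrix.diagonal_mul, smul_eq_mul, ← hjk]
          push_cast; ring
        · rw [smul_zero]
      have h3 := hg n hn _ h0
      rw [h2] at h3
      have hn0 : (-(n : K)) ≠ 0 := by
        rw [neg_ne_zero, Int.cast_ne_zero]; exact hn.ne'
      exact (Submodule.smul_mem_iff _ hn0).mp h3
    -- coefficients
    have hb : ∃ b : I → K, (∀ a, deg a ≠ n → b a = 0) ∧ C = (L.map fun a => b a • e a).sum := by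
      refine Submodule.span_induction (p := fun X _ => ∃ b : I → K, (∀ a, deg a ≠ n → b a = 0) ∧
        X = (L.map fun a => b a • e a).sum) ?_ ?_ ?_ ?_ hCmem
      · rintro _ ⟨a, ⟨haL, han⟩, rfl⟩
        refine ⟨fun c => if c = a then 1 else 0, fun c hc => if_neg (by rintro rfl; exact hc han),
          ?_⟩
        have h1 : (L.map fun c => (if c = a then (1 : K) else 0) • e c) =
            (L.map fun c => if c = a then e c else 0) := by
          refine List.map_congr_left fun c _ => ?_
          split_ifs <;> simp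
        rw [h1, List.sum_map_ite_eq, List.count_eq_one_of_mem hnd haL, one_nsmul]
        simp
      · exact ⟨fun _ => 0, fun _ _ => rfl, by simp⟩
      · rintro X Y - - ⟨b, hb1, hb2⟩ ⟨c, hc1, hc2⟩
        refine ⟨fun a => b a + c a, fun a ha => by simp only [hb1 a ha, hc1 a ha, add_zero], ?_⟩
        rw [hb2, hc2, ← List.sum_map_add]
        simp only [add_smul]
      · rintro r X - ⟨b, hb1, hb2⟩
        refine ⟨fun a => r * b a, fun a ha => by simp only [hb1 a ha, mul_zero], ?_⟩
        rw [hb2, List.smul_sum, List.map_map]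
        simp only [mul_smul, Function.comp_def]
    obtain ⟨b, hb1, hb2⟩ := hb
    set v : (Matrix J J K)ˣ := (L.map fun a => U a (b a)).prod with hv
    have hvval : (v : Matrix J J K) = (L.map fun a => (U a (b a) : Matrix J J K)).prod := by
      rw [hv]
      change (Units.coeHom _) _ = _
      rw [map_list_prod, List.map_map]; rfl
    have hlev : Lev d (n + 1) ((v : Matrix J J K) - 1 - C) := by
      rw [hb2, hvval]
      refine lev_prod hn L _ _ (fun a ha => ?_) (fun a ha => ?_)
      · by_cases han : deg a = n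
        · exact han ▸ (he a ha).smul _
        · rw [hb1 a han, zero_smul]; exact Lev.zero
      · by_cases han : deg a = n
        · exact han ▸ hU a ha _
        · rw [hb1 a han, hU0]; simpa using Lev.zero
    have hvn : v ∈ Nrm g := Subgroup.list_prod_mem _ fun x hx => by
      obtain ⟨c, hc, rfl⟩ := List.mem_map.mp hx
      exact hUn c hc _
    have hv1 : Lev d 1 ((v : Matrix J J K) - 1) := by
      have : (v : Matrix J J K) - 1 = ((v : Matrix J J K) - 1 - C) + C := by abel
      rw [this]
      exact (hlev.mono (by omega)).add ((lev_comp d n _).mono (by omega))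
    have hvinv : Lev d 0 ((v⁻¹ : (Matrix J J K)ˣ) : Matrix J J K) :=
      Lev.inv (u := (v : Matrix J J K)) (by simp) hv1
    have hlev2 : Lev d (n + 1) (((v⁻¹ * u : (Matrix J J K)ˣ) : Matrix J J K) - 1) := by
      have h1 : ((v⁻¹ * u : (Matrix J J K)ˣ) : Matrix J J K) - 1 =
          ((v⁻¹ : (Matrix J J K)ˣ) : Matrix J J K) *
            (((u : Matrix J J K) - 1 - C) - ((v : Matrix J J K) - 1 - C)) := by
        have h2 : ((v⁻¹ : (Matrix J J K)ˣ) : Matrix J J K) * (v : Matrix J J K) = 1 := by simp
        calc ((v⁻¹ * u : (Matrix J J K)ˣ) : Matrix J J K) - 1 =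
              ((v⁻¹ : (Matrix J J K)ˣ) : Matrix J J K) * (u : Matrix J J K) -
                ((v⁻¹ : (Matrix J J K)ˣ) : Matrix J J K) * (v : Matrix J J K) := by
              rw [h2, Units.val_mul]
          _ = _ := by noncomm_ring
      rw [h1]
      exact hvinv.mul_left ((lev_sub_comp hu).sub hlev)
    obtain ⟨x, hx1, hx2⟩ := ih (n + 1) (by omega) (by push_cast at hnN; omega) (v⁻¹ * u) hlev2
      ((Nrm g).mul_mem ((Nrm g).inv_mem hvn) hun)
    refine ⟨fun a => if deg a ≤ n then b a else x a, fun a ha => ?_, ?_⟩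
    · simp only [if_pos ha.le, hb1 a ha.ne]
    · have h1 : u = v * (v⁻¹ * u) := by group
      rw [h1, hx2, hv, prod_mul_prod_of_sorted deg n L hL]
      · congr 1
        refine List.map_congr_left fun a _ => ?_
        by_cases ha : deg a ≤ n
        · simp only [if_pos ha]
        · simp only [if_neg ha]
      · intro a ha
        rw [hb1 a ha.ne', hU0]
      · intro a ha
        rw [hx1 a (by omega), hU0]

/-- The normaliser trick. -/
theorem exists_prod {I : Type*} (d : J → ℤ) (g : Submodule K (Matrix J J K)) (deg : I → ℤ)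
    (L : List I) (hL : L.Pairwise fun a c => deg a ≤ deg c) (hnd : L.Nodup)
    (e : I → Matrix J J K) (he : ∀ a ∈ L, Lev d (deg a) (e a))
    (hd : Matrix.diagonal (fun j => (d j : K)) ∈ g)
    (hg : ∀ n, 0 < n → ∀ X ∈ g, comp d n X ∈ Submodule.span K (e '' {a | a ∈ L ∧ deg a = n}))
    (U : I → K → (Matrix J J K)ˣ) (hU0 : ∀ a, U a 0 = 1)
    (hU : ∀ a ∈ L, ∀ x, Lev d (deg a + 1) ((U a x : Matrix J J K) - 1 - x • e a))
    (hUn : ∀ a ∈ L, ∀ x, U a x ∈ Nrm g)
    (u : (Matrix J J K)ˣ) (hu : Lev d 1 ((u : Matrix J J K) - 1)) (hun : u ∈ Nrm g) :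
    ∃ x : I → K, u = (L.map fun a => U a (x a)).prod := by
  obtain ⟨N, hN⟩ := exists_bound d
  obtain ⟨x, -, hx⟩ := exists_prod_aux d g deg L hL hnd e he hd hg U hU0 hU hUn hN N 1 one_pos
    (by omega) u hu hun
  exact ⟨x, hx⟩

end main

end Groth.Agent.RedSub.H630.Levels
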