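import Groth.Agent.RedSub.H630.Coords
import Groth.Agent.Sga3B.PinComb829
import Mathlib.Algebra.MvPolynomial.CommRing

/-!
# Multiplication of ordered products of root elements over arbitrary rings
-/

set_option autoImplicit false
universe u

open Matrix Groth.Agent.RedSub.H630.ChevDefs Groth.Agent.RedSub.H630.Levels
  Groth.Agent.RedSub.H630.UMat Groth.Agent.RedSub.H630.Coords

namespace Groth.Agent.RedSub.H630.Transfer

variable {idx M : Type} [AddCommGroup M]
variable {P : RootPairing idx ℤ M (Module.Dual ℤ M)} {b : P.Base} (R : RootMat P b)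

namespace RootMat

open Coords.RootMat

theorem pr_mem_nrm (L : List idx) {K : Type*} [Field K] [CharZero K] (x : idx → K) :
    R.pr L x ∈ Nrm (R.lie K) := Subgroup.list_prod_mem _ fun y hy => by
  obtain ⟨a, _, rfl⟩ := List.mem_map.mp hy
  exact R.U_mem_nrm a _

/-- Data of a grading: the list of the roots of positive degree, sorted by degree. -/
structure Grad (P : RootPairing idx ℤ M (Module.Dual ℤ M)) where
  /-- the grading -/
  l : M →+ ℤ
  /-- the sorted list -/
  L : List idx
  nd : L.Nodup
  mem : ∀ a, a ∈ L ↔ 0 < l (P.root a)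
  srt : L.Pairwise fun a c => l (P.root a) ≤ l (P.root c)
  ne : ∀ a, l (P.root a) ≠ 0

variable [Finite idx] (G : Grad P)

theorem exists_mul {B : Type*} [CommRing B] (x y : idx → B) :
    ∃ z : idx → B, R.pr G.L x * R.pr G.L y = R.pr G.L z := by
  let A := MvPolynomial (idx ⊕ idx) ℤ
  let f : A →+* B := MvPolynomial.eval₂Hom (Int.castRingHom B) (Sum.elim x y)
  let X : idx → A := fun a => MvPolynomial.X (Sum.inl a)
  let Y : idx → A := fun a => MvPolynomial.X (Sum.inr a)
  have : CharZero (FractionRing A) :=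
    charZero_of_injective_algebraMap (IsFractionRing.injective A (FractionRing A))
  obtain ⟨z, hz⟩ := R.exists_coords G.l G.l G.L G.nd G.mem G.srt (fun _ => Iff.rfl)
    (R.pr G.L X * R.pr G.L Y) (by
      rw [Units.val_mul]
      exact Lev.mul_sub_one zero_le_one
        (R.lev_list_prod G.l G.L (fun a ha => (G.mem a).mp ha) X)
        (R.lev_list_prod G.l G.L (fun a ha => (G.mem a).mp ha) Y))
    (by
      rw [map_mul, R.mapU_pr, R.mapU_pr]
      exact Subgroup.mul_mem _ (pr_mem_nrm R _ _) (pr_mem_nrm R _ _))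
  have h1 := congrArg (R.mapU f) hz
  rw [map_mul, R.mapU_pr, R.mapU_pr, R.mapU_pr] at h1
  refine ⟨fun a => f (z a), ?_⟩
  rw [← h1]
  have hX : (fun a => f (X a)) = x := by
    funext a; exact MvPolynomial.eval₂_X _ _ _
  have hY : (fun a => f (Y a)) = y := by
    funext a; exact MvPolynomial.eval₂_X _ _ _
  rw [hX, hY]

theorem exists_inv {B : Type*} [CommRing B] (x : idx → B) :
    ∃ z : idx → B, (R.pr G.L x)⁻¹ = R.pr G.L z := by
  let A := MvPolynomial idx ℤ
  let f : A →+* B := MvPolynomial.eval₂Hom (Int.castRingHom B) x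
  let X : idx → A := fun a => MvPolynomial.X a
  have : CharZero (FractionRing A) :=
    charZero_of_injective_algebraMap (IsFractionRing.injective A (FractionRing A))
  obtain ⟨z, hz⟩ := R.exists_coords G.l G.l G.L G.nd G.mem G.srt (fun _ => Iff.rfl)
    (R.pr G.L X)⁻¹ (by
      exact Lev.inv_sub_one (Units.mul_inv _) le_rfl
        (R.lev_list_prod G.l G.L (fun a ha => (G.mem a).mp ha) X))
    (by
      rw [map_inv, R.mapU_pr]
      exact Subgroup.inv_mem _ (pr_mem_nrm R _ _))
  have h1 := congrArg (R.mapU f) hz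
  rw [map_inv, R.mapU_pr, R.mapU_pr] at h1
  refine ⟨fun a => f (z a), ?_⟩
  rw [← h1]
  have hX : (fun a => f (X a)) = x := by
    funext a; exact MvPolynomial.eval₂_X _ _ _
  rw [hX]

omit [Finite idx] in
/-- The coordinate of minimal degree is additive. -/
theorem coord_mul {B : Type*} [CommRing B] {x y z : idx → B}
    (h : R.pr G.L x * R.pr G.L y = R.pr G.L z) (c : idx) (hc : c ∈ G.L)
    (hmin : ∀ a ∈ G.L, G.l (P.root c) ≤ G.l (P.root a)) : z c = x c + y c := by
  have hx := R.phi_prod_min G.l G.L G.nd G.mem G.srt x c hc hmin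
  have hy := R.phi_prod_min G.l G.L G.nd G.mem G.srt y c hc hmin
  have hz := R.phi_prod_min G.l G.L G.nd G.mem G.srt z c hc hmin
  have hlev : ∀ w : idx → B, Lev (R.deg G.l) (G.l (P.root c)) ((R.pr G.L w : Matrix R.J R.J B) - 1) := by
    intro w
    have key : ∀ L' : List idx, (∀ a ∈ L', a ∈ G.L) →
        Lev (R.deg G.l) (G.l (P.root c)) ((R.pr L' w : Matrix R.J R.J B) - 1) := by
      intro L' hL'
      induction L' with
      | nil => simpa [Coords.RootMat.pr] using Lev.zero
      | cons a L' ih =>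
        rw [Coords.RootMat.pr, List.map_cons, List.prod_cons, Units.val_mul]
        exact Lev.mul_sub_one ((G.mem c).mp hc).le
          ((R.lev_U_one G.l a ((G.mem a).mp (hL' a List.mem_cons_self)) (w a)).mono
            (hmin a (hL' a List.mem_cons_self)))
          (ih fun d hd => hL' d (List.mem_cons_of_mem a hd))
    exact key G.L fun _ h => h
  have h1 : (R.pr G.L z : Matrix R.J R.J B) = (R.pr G.L x : Matrix R.J R.J B) +
      (R.pr G.L y : Matrix R.J R.J B) - 1 +
      ((R.pr G.L x : Matrix R.J R.J B) - 1) * ((R.pr G.L y : Matrix R.J R.J B) - 1) := by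
    rw [← h, Units.val_mul]; noncomm_ring
  have hpos := (G.mem c).mp hc
  rw [h1, map_add, map_sub, map_add, hx, hy, R.phi_one G.l c (G.ne c),
    R.phi_lev G.l c (n := G.l (P.root c) + G.l (P.root c)) (by omega) ((hlev x).mul (hlev y))]
    at hz
  rw [← hz]; ring

/-- Ordered products without the root `c` of minimal degree are normalised by the opposite root
group. -/
theorem exists_norm (c c' : idx) (hc : c ∈ G.L)
    (hmin : ∀ a ∈ G.L, G.l (P.root c) ≤ G.l (P.root a)) (hneg : P.root c' = -P.root c)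
    (la : M →+ ℤ) (h0 : la (P.root c) = 0) (hpos : ∀ a ∈ G.L, a ≠ c → 0 < la (P.root a))
    {B : Type*} [CommRing B] (t : B) (x : idx → B) (hx : x c = 0) :
    ∃ z : idx → B, z c = 0 ∧ R.U c' t * R.pr G.L x * (R.U c' t)⁻¹ = R.pr G.L z := by
  classical
  let A := MvPolynomial (Option idx) ℤ
  let f : A →+* B := MvPolynomial.eval₂Hom (Int.castRingHom B) (fun o => o.elim t x)
  let T : A := MvPolynomial.X none
  let X : idx → A := fun a => if a = c then 0 else MvPolynomial.X (some a)
  have : CharZero (FractionRing A) :=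
    charZero_of_injective_algebraMap (IsFractionRing.injective A (FractionRing A))
  obtain ⟨C, hC⟩ := exists_bound (R.deg G.l)
  let l' : M →+ ℤ := ((C : ℤ) + 1) • la + G.l
  have hl'v : ∀ m, l' m = ((C : ℤ) + 1) * la m + G.l m := fun m => by
    simp [l', AddMonoidHom.add_apply]
  -- positivity of the new grading
  have hnn : ∀ a, a ∈ G.L → 0 ≤ la (P.root a) := by
    intro a ha
    by_cases hac : a = c
    · rw [hac, h0]
    · exact (hpos a ha hac).le
  have hl' : ∀ a, 0 < l' (P.root a) ↔ 0 < G.l (P.root a) := by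
    intro a
    rw [hl'v]
    constructor
    · intro h
      by_contra hna
      have h1 : G.l (P.root a) < 0 := lt_of_le_of_ne (not_lt.mp hna) (G.ne a)
      have h2 : P.root (P.reflectionPerm a a) = -P.root a := by
        rw [P.root_reflectionPerm, P.reflection_apply_self]
      have h3 : P.reflectionPerm a a ∈ G.L := by
        rw [G.mem, h2, map_neg]; omega
      have h4 := hnn _ h3
      rw [h2, map_neg] at h4
      nlinarith
    · intro h
      have := hnn a ((G.mem a).mpr h)
      positivity
  -- levels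
  have hlevX : Lev (R.deg la) 1 ((R.pr G.L X : Matrix R.J R.J A) - 1) := by
    have key : ∀ L' : List idx, (∀ a ∈ L', a ∈ G.L) →
        Lev (R.deg la) 1 ((R.pr L' X : Matrix R.J R.J A) - 1) := by
      intro L' hL'
      induction L' with
      | nil => simpa [Coords.RootMat.pr] using Lev.zero
      | cons a L' ih =>
        rw [Coords.RootMat.pr, List.map_cons, List.prod_cons, Units.val_mul]
        refine Lev.mul_sub_one zero_le_one ?_ (ih fun d hd => hL' d (List.mem_cons_of_mem a hd))
        by_cases hac : a = c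
        · simp only [X, if_pos hac, R.U_zero]; simpa using Lev.zero
        · have h5 := hpos a (hL' a List.mem_cons_self) hac
          exact (R.lev_U_one la a h5 _).mono h5
    exact key G.L fun _ h => h
  have hla' : la (P.root c') = 0 := by rw [hneg, map_neg, h0, neg_zero]
  have hlevv : Lev (R.deg la) 1 (((R.U c' T * R.pr G.L X * (R.U c' T)⁻¹ :
      (Matrix R.J R.J A)ˣ) : Matrix R.J R.J A) - 1) := by
    have h6 : ((R.U c' T * R.pr G.L X * (R.U c' T)⁻¹ : (Matrix R.J R.J A)ˣ) :
        Matrix R.J R.J A) - 1 = (R.U c' T : Matrix R.J R.J A) *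
          ((R.pr G.L X : Matrix R.J R.J A) - 1) * (R.U c' (-T) : Matrix R.J R.J A) := by
      have h7 : (R.U c' T : Matrix R.J R.J A) * (R.U c' (-T) : Matrix R.J R.J A) = 1 := by
        rw [← Units.val_mul, ← R.U_add, add_neg_cancel, R.U_zero, Units.val_one]
      rw [Units.val_mul, Units.val_mul, R.coe_U_inv, mul_sub, sub_mul, mul_one, h7]
    rw [h6]
    have h8 := ((R.lev_U_zero la c' hla'.ge T).mul hlevX).mul (R.lev_U_zero la c' hla'.ge (-T))
    simpa using h8
  have hlevv' : Lev (R.deg l') 1 (((R.U c' T * R.pr G.L X * (R.U c' T)⁻¹ :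
      (Matrix R.J R.J A)ˣ) : Matrix R.J R.J A) - 1) := by
    intro j k hjk
    have h1 := hlevv j k hjk
    have h2 := (hC j k).2
    have h3 : R.deg l' j - R.deg l' k =
        ((C : ℤ) + 1) * (R.deg la j - R.deg la k) + (R.deg G.l j - R.deg G.l k) := by
      simp only [Coords.RootMat.deg, hl'v]; ring
    rw [h3]
    have h4 : (0 : ℤ) ≤ C := Int.natCast_nonneg C
    nlinarith
  obtain ⟨z, hz⟩ := R.exists_coords G.l l' G.L G.nd G.mem G.srt hl'
    (R.U c' T * R.pr G.L X * (R.U c' T)⁻¹) hlevv'
    (by
      rw [map_mul, map_mul, map_inv, R.mapU_pr, R.mapU_U]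
      exact Subgroup.mul_mem _ (Subgroup.mul_mem _ (R.U_mem_nrm c' _) (pr_mem_nrm R _ _))
        (Subgroup.inv_mem _ (R.U_mem_nrm c' _)))
  have hzc : z c = 0 := by
    rw [← R.phi_prod_min G.l G.L G.nd G.mem G.srt z c hc hmin, ← hz]
    have h1 : ((R.U c' T * R.pr G.L X * (R.U c' T)⁻¹ : (Matrix R.J R.J A)ˣ) :
        Matrix R.J R.J A) = (((R.U c' T * R.pr G.L X * (R.U c' T)⁻¹ : (Matrix R.J R.J A)ˣ) :
        Matrix R.J R.J A) - 1) + 1 := (sub_add_cancel _ _).symm
    rw [h1, map_add, R.phi_one G.l c (G.ne c), add_zero]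
    exact R.phi_lev la c (by rw [h0]; exact one_pos) hlevv
  have h1 := congrArg (R.mapU f) hz
  rw [map_mul, map_mul, map_inv, R.mapU_pr, R.mapU_pr, R.mapU_U] at h1
  refine ⟨fun a => f (z a), ?_, ?_⟩
  · change f (z c) = 0
    rw [hzc, map_zero]
  · rw [← h1]
    have hX : (fun a => f (X a)) = x := by
      funext a
      by_cases hac : a = c
      · subst hac
        simp only [X, if_pos, map_zero, hx]
      · simp only [X, if_neg hac]
        exact MvPolynomial.eval₂_X _ _ _
    have hT : f T = t := MvPolynomial.eval₂_X _ _ _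
    rw [hX, hT]

end RootMat

section gradings

variable [Finite idx] [Module.Free ℤ M] [Module.Finite ℤ M] (b)

/-- a functional vanishing on a simple root and positive on the other positive roots -/
theorem exists_functional_levi {a : idx} (ha : a ∈ b.support) :
    ∃ la : M →+ ℤ, la (P.root a) = 0 ∧ ∀ c, b.IsPos c → c ≠ a → 0 < la (P.root c) := by
  classical
  obtain ⟨lam, n, hn, h⟩ := Sga3B.PinComb.exists_functional_of_linearIndependent
    (fun i : b.support => P.root i) (b.linearIndepOn_root.restrict_scalars' ℤ)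
    (fun i => if (i : idx) = a then 0 else 1)
  refine ⟨lam, ?_, fun c hc hca => ?_⟩
  · rw [h ⟨a, ha⟩, if_pos rfl, mul_zero]
  · obtain ⟨f, hf0, hf1, hf⟩ := b.exists_root_eq_sum_int c
    have hfpos : 0 < f := by
      refine hf1.resolve_right fun h => ?_
      rw [RootPairing.Base.isPos_iff, RootPairing.Base.height_eq_sum hf] at hc
      exact absurd hc (not_lt.mpr (Finset.sum_nonpos fun j _ => h.le j))
    have hval : lam (P.root c) = n * ∑ j ∈ b.support.erase a, f j := by
      rw [hf, map_sum, Finset.mul_sum, ← Finset.add_sum_erase _ _ ha, map_zsmul, h ⟨a, ha⟩,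
        if_pos rfl, mul_zero, smul_zero, zero_add]
      refine Finset.sum_congr rfl fun j hj => ?_
      rw [map_zsmul, h ⟨j, Finset.mem_of_mem_erase hj⟩, if_neg (Finset.ne_of_mem_erase hj), mul_one,
        smul_eq_mul, mul_comm]
    rw [hval]
    refine mul_pos hn (lt_of_le_of_ne (Finset.sum_nonneg fun j _ => hfpos.le j) fun h0 => hca ?_)
    have h1 := (Finset.sum_eq_zero_iff_of_nonneg (fun j _ => hfpos.le j)).mp h0.symm
    have h2 : P.root c = f a • P.root a := by
      rw [hf, Finset.sum_eq_single_of_mem a ha]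
      intro j hj hja
      rw [h1 j (Finset.mem_erase.mpr ⟨hja, hj⟩), zero_smul]
    rcases Sga3B.PinComb.simple_of_smul b ha h2 with h3 | h3
    · rw [h3, one_smul] at h2
      exact P.root.injective h2
    · have := hfpos.le a
      rw [h3] at this
      exact absurd this (by simp)

/-- The grading by height. -/
theorem exists_grad : ∃ (G : RootMat.Grad P) (n : ℤ), 0 < n ∧
    ∀ i, G.l (P.root i) = n * b.height i := by
  obtain ⟨l, n, hn, h⟩ := Sga3B.PinComb.exists_height_functional b
  obtain ⟨L, h1, h2, h3⟩ := Coords.RootMat.exists_sorted (P := P) l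
  exact ⟨⟨l, L, h1, h2, h3, fun a => by rw [h]; exact mul_ne_zero hn.ne' (b.height_ne_zero a)⟩,
    n, hn, h⟩

/-- The grading by minus the height. -/
theorem exists_grad_neg : ∃ (G : RootMat.Grad P) (n : ℤ), 0 < n ∧
    ∀ i, G.l (P.root i) = -(n * b.height i) := by
  obtain ⟨l, n, hn, h⟩ := Sga3B.PinComb.exists_height_functional b
  obtain ⟨L, h1, h2, h3⟩ := Coords.RootMat.exists_sorted (P := P) (-l)
  refine ⟨⟨-l, L, h1, h2, h3, fun a => ?_⟩, n, hn, fun i => ?_⟩
  · rw [AddMonoidHom.neg_apply, h]
    exact neg_ne_zero.mpr (mul_ne_zero hn.ne' (b.height_ne_zero a))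
  · change (-l) (P.root i) = _
    rw [AddMonoidHom.neg_apply, h]

end gradings

end Groth.Agent.RedSub.H630.Transfer
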